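import Mathlib
import Cfsg.Agent.Zel.PI.Shift

/-!
# The density lemma for graded sub-bimodules of `A ^ r`
-/

set_option autoImplicit false

namespace Cfsg.Agent.Zel.PI

open Submodule

variable {F A α : Type*} [Field F] [Ring A] [Algebra F A] {x : α → A}

/-- a homogeneous bimodule map is a scalar -/
theorem two_coord [IsAlgClosed F] [Finite α] (h : IsJI F x) (hs : ¬ Shift F x) (s s' M : ℕ)
    (G : ℕ → Submodule F (A × A))
    (hW : ∀ n, ∀ y ∈ G n, y.1 ∈ W F x (n + s) ∧ y.2 ∈ W F x (n + s'))
    (hl : ∀ n i, ∀ y ∈ G n, (x i * y.1, x i * y.2) ∈ G (n + 1))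
    (hr : ∀ n i, ∀ y ∈ G n, (y.1 * x i, y.2 * x i) ∈ G (n + 1))
    (h1 : ∀ n, ∀ y ∈ G n, y.2 = 0 → y.1 = 0)
    (ht : ∀ n, M ≤ n → ∀ a ∈ W F x (n + s'), ∃ u, (u, a) ∈ G n) :
    ∃ (c : F) (M' : ℕ), ∀ n, M' ≤ n → ∀ y ∈ G n, y.1 = c • y.2 := by
  -- the elements on which the map is the scalar `c`
  have scal : ∀ c : F, (∃ n a, a ≠ 0 ∧ (c • a, a) ∈ G n) →
      ∃ M' : ℕ, ∀ n, M' ≤ n → ∀ y ∈ G n, y.1 = c • y.2 := by
    rintro c ⟨n, a, ha0, ha⟩
    let K : ℕ → Submodule F A := fun n => (G n).comap ((c • LinearMap.id).prod LinearMap.id)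
    have hK : ∀ n a, a ∈ K n ↔ (c • a, a) ∈ G n := fun n a => Iff.rfl
    obtain ⟨M', hM'⟩ := h.shift s' K (fun n a ha => (hW _ _ ((hK _ _).1 ha)).2)
      (fun n i a ha => by
        have := hl n i _ ((hK _ _).1 ha)
        rwa [hK, ← mul_smul_comm])
      (fun n i a ha => by
        have := hr n i _ ((hK _ _).1 ha)
        rwa [hK, ← smul_mul_assoc])
      ⟨n, (Submodule.ne_bot_iff _).2 ⟨a, ha, ha0⟩⟩
    refine ⟨M', fun n hn y hy => ?_⟩
    have := h1 n _ (sub_mem hy ((hK _ _).1 (hM' n hn (hW _ _ hy).2))) (by simp)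
    exact sub_eq_zero.1 this
  by_cases h2 : ∀ n, ∀ y ∈ G n, y.1 = 0 → y.2 = 0
  swap
  · push Not at h2
    obtain ⟨n, y, hy, e1, e2⟩ := h2
    refine ⟨0, scal 0 ⟨n, y.2, e2, ?_⟩⟩
    rwa [zero_smul, ← e1]
  rcases lt_trichotomy s' s with hlt | heq | hlt
  · exfalso
    obtain ⟨a, ha, ha0⟩ := h.exists_ne (M + s')
    obtain ⟨u, hu⟩ := ht M le_rfl a ha
    obtain ⟨M', hM'⟩ := h.shift s (fun n => (G n).map (LinearMap.fst F A A))
      (by rintro n _ ⟨y, hy, rfl⟩; exact (hW _ _ hy).1)
      (by rintro n i _ ⟨y, hy, rfl⟩; exact ⟨_, hl n i y hy, rfl⟩)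
      (by rintro n i _ ⟨y, hy, rfl⟩; exact ⟨_, hr n i y hy, rfl⟩)
      ⟨M, (Submodule.ne_bot_iff _).2 ⟨u, ⟨_, hu, rfl⟩, fun e => ha0 (h2 _ _ hu e)⟩⟩
    refine hs ⟨s, s', M', G, hlt, hW, hl, h1, h2, fun n hn u hu => ?_⟩
    obtain ⟨y, hy, rfl⟩ := hM' n hn hu
    exact ⟨y.2, hy⟩
  · subst heq
    have := W_fd (F := F) (x := x) (M + s')
    let π₁ : G M →ₗ[F] W F x (M + s') :=
      ((LinearMap.fst F A A).comp (G M).subtype).codRestrict _ fun y => (hW _ _ y.2).1
    let π₂ : G M →ₗ[F] W F x (M + s') :=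
      ((LinearMap.snd F A A).comp (G M).subtype).codRestrict _ fun y => (hW _ _ y.2).2
    have hb : Function.Bijective π₂ := by
      constructor
      · rw [injective_iff_map_eq_zero]
        intro y hy
        have e2 : y.1.2 = 0 := congrArg Subtype.val hy
        exact Subtype.ext (Prod.ext (h1 _ _ y.2 e2) e2)
      · intro a
        obtain ⟨u, hu⟩ := ht M le_rfl a a.2
        exact ⟨⟨_, hu⟩, rfl⟩
    let e := LinearEquiv.ofBijective π₂ hb
    have : Nontrivial (W F x (M + s')) := Submodule.nontrivial_iff_ne_bot.2 (h.ne _)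
    obtain ⟨c, hc⟩ := Module.End.exists_eigenvalue (π₁ ∘ₗ e.symm.toLinearMap)
    obtain ⟨a, ha⟩ := hc.exists_hasEigenvector
    refine ⟨c, scal c ⟨M, a, fun e => ha.2 (Subtype.ext e), ?_⟩⟩
    have e1 : ((e.symm a).1.1 : A) = c • (a : A) := congrArg Subtype.val ha.apply_eq_smul
    have e2 : ((e.symm a).1.2 : A) = a := congrArg Subtype.val (e.apply_symm_apply a)
    rw [← e1, ← e2]
    exact (e.symm a).2
  · exfalso
    refine hs ⟨s', s, M, fun n => (G n).comap (LinearEquiv.prodComm F A A).toLinearMap, hlt,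
      fun n y hy => (hW _ _ hy).symm, fun n i y hy => hl n i _ hy, fun n y hy => h2 _ _ hy,
      fun n y hy => h1 _ _ hy, ht⟩

/-- the density lemma -/
theorem dens [IsAlgClosed F] [Finite α] (g : Gr F x) (h : IsJI F x) (hs : ¬ Shift F x)
    {ι : Type*} [Fintype ι] [DecidableEq ι] (s : ι → ℕ) (E : ℕ → Submodule F (ι → A))
    (hW : ∀ n, ∀ e ∈ E n, ∀ i, e i ∈ W F x (n + s i))
    (hl : ∀ n j, ∀ e ∈ E n, (fun i => x j * e i) ∈ E (n + 1))
    (hr : ∀ n j, ∀ e ∈ E n, (fun i => e i * x j) ∈ E (n + 1))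
    (hβ : ∀ β : ι → F, (∀ n, ∀ e ∈ E n, ∑ i, β i • e i = 0) → β = 0) :
    ∃ M, ∀ n, M ≤ n → ∀ i, ∀ a ∈ W F x (n + s i), Pi.single i a ∈ E n := by
  have hrw : ∀ (w : List α) n, ∀ e ∈ E n, (fun i => e i * wd x w) ∈ E (n + w.length) := by
    intro w
    induction w with
    | nil => intro n e he; simpa using he
    | cons j w ih =>
      intro n e he
      have := ih _ _ (hr n j e he)
      rw [List.length_cons, ← add_assoc, Nat.add_right_comm]
      simpa [mul_assoc] using this
  have key : ∀ T : Finset ι, ∃ M, ∀ n, M ≤ n → ∀ a : ι → A, (∀ i ∈ T, a i ∈ W F x (n + s i)) →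
      ∃ e ∈ E n, ∀ i ∈ T, e i = a i := by
    intro T
    induction T using Finset.induction_on with
    | empty => exact ⟨0, fun n _ a _ => ⟨0, zero_mem _, by simp⟩⟩
    | insert j T hj ih =>
      obtain ⟨M, hM⟩ := ih
      let Z : Finset ι → Submodule F (ι → A) := fun T => ⨅ i ∈ T, LinearMap.ker (LinearMap.proj i)
      have hZ : ∀ T e, e ∈ Z T ↔ ∀ i ∈ T, e i = 0 := by
        intro T e
        simp [Z]
      let K : ℕ → Submodule F A := fun n => (E n ⊓ Z T).map (LinearMap.proj j)
      by_cases hK : ∃ n, K n ≠ ⊥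
      · obtain ⟨M', hM'⟩ := h.shift (s j) K
          (by rintro n _ ⟨e, he, rfl⟩; exact hW _ _ he.1 j)
          (by
            rintro n i _ ⟨e, he, rfl⟩
            exact ⟨_, ⟨hl n i e he.1, (hZ _ _).2 fun k hk => by
              simp [(hZ _ _).1 he.2 k hk]⟩, rfl⟩)
          (by
            rintro n i _ ⟨e, he, rfl⟩
            exact ⟨_, ⟨hr n i e he.1, (hZ _ _).2 fun k hk => by
              simp [(hZ _ _).1 he.2 k hk]⟩, rfl⟩) hK
        refine ⟨max M M', fun n hn a ha => ?_⟩
        obtain ⟨e, he, hea⟩ := hM n (le_of_max_le_left hn) a fun i hi =>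
          ha i (Finset.mem_insert_of_mem hi)
        obtain ⟨e', he', hea'⟩ := hM' n (le_of_max_le_right hn)
          (sub_mem (ha j (Finset.mem_insert_self _ _)) (hW _ _ he j))
        refine ⟨e + e', add_mem he he'.1, fun i hi => ?_⟩
        rcases Finset.mem_insert.1 hi with rfl | hi
        · have : e' i = a i - e i := hea'
          simp [this]
        · simp [(hZ _ _).1 he'.2 i hi, hea i hi]
      · exfalso
        push Not at hK
        have hK' : ∀ n, ∀ e ∈ E n, (∀ i ∈ T, e i = 0) → e j = 0 := by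
          intro n e he h0
          have : e j ∈ K n := ⟨e, ⟨he, (hZ _ _).2 h0⟩, rfl⟩
          rwa [hK, mem_bot] at this
        have hc : ∀ i ∈ T, ∃ (c : F) (M' : ℕ), ∀ n, M' ≤ n → ∀ e ∈ E n,
            (∀ k ∈ T.erase i, e k = 0) → e j = c • e i := by
          intro i hi
          obtain ⟨c, M', hM'⟩ := two_coord h hs (s j) (s i) M
            (fun n => (E n ⊓ Z (T.erase i)).map ((LinearMap.proj j).prod (LinearMap.proj i)))
            (by rintro n _ ⟨e, he, rfl⟩; exact ⟨hW _ _ he.1 j, hW _ _ he.1 i⟩)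
            (by
              rintro n k _ ⟨e, he, rfl⟩
              exact ⟨_, ⟨hl n k e he.1, (hZ _ _).2 fun k hk => by
                simp [(hZ _ _).1 he.2 k hk]⟩, rfl⟩)
            (by
              rintro n k _ ⟨e, he, rfl⟩
              exact ⟨_, ⟨hr n k e he.1, (hZ _ _).2 fun k hk => by
                simp [(hZ _ _).1 he.2 k hk]⟩, rfl⟩)
            (by
              rintro n _ ⟨e, he, rfl⟩ h0
              refine hK' n e he.1 fun k hk => ?_
              by_cases hki : k = i
              · subst hki; exact h0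
              · exact (hZ _ _).1 he.2 k (Finset.mem_erase.2 ⟨hki, hk⟩))
            (by
              intro n hn a ha
              obtain ⟨e, he, hea⟩ := hM n hn (Pi.single i a) fun k _ => by
                by_cases hki : k = i
                · subst hki; simpa using ha
                · simp [hki]
              refine ⟨e j, e, ⟨he, (hZ _ _).2 fun k hk => ?_⟩, ?_⟩
              · rw [hea k (Finset.mem_of_mem_erase hk), Pi.single_eq_of_ne (Finset.ne_of_mem_erase hk)]
              · have : e i = a := by rw [hea i hi, Pi.single_eq_same]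
                exact Prod.ext rfl this)
          exact ⟨c, M', fun n hn e he h0 => hM' n hn _ ⟨e, ⟨he, (hZ _ _).2 h0⟩, rfl⟩⟩
        choose! c M' hc using hc
        have hbig : ∀ n, max M (T.sup M') ≤ n → ∀ e ∈ E n, e j = ∑ i ∈ T, c i • e i := by
          intro n hn e he
          have hex : ∀ i ∈ T, ∃ e' ∈ E n, ∀ k ∈ T, e' k = (Pi.single i (e i) : ι → A) k := by
            intro i hi
            refine hM n (le_of_max_le_left hn) _ fun k _ => ?_
            by_cases hki : k = i
            · subst hki; simpa using hW _ _ he k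
            · simp [hki]
          choose! e' he' hea using hex
          have h0 := hK' n (e - ∑ i ∈ T, e' i) (sub_mem he (sum_mem he')) fun k hk => by
            rw [Pi.sub_apply, Finset.sum_apply, Finset.sum_eq_single_of_mem k hk, hea k hk k hk,
              Pi.single_eq_same, sub_self]
            intro i hi hik
            rw [hea i hi k hk, Pi.single_eq_of_ne hik.symm]
          rw [Pi.sub_apply, Finset.sum_apply, sub_eq_zero] at h0
          rw [h0]
          refine Finset.sum_congr rfl fun i hi => ?_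
          rw [hc i hi n ((Finset.le_sup hi).trans (le_of_max_le_right hn)) _ (he' i hi), hea i hi i hi,
            Pi.single_eq_same]
          intro k hk
          rw [hea i hi k (Finset.mem_of_mem_erase hk), Pi.single_eq_of_ne (Finset.ne_of_mem_erase hk)]
        have hall : ∀ n, ∀ e ∈ E n, e j - ∑ i ∈ T, c i • e i = 0 := by
          intro n e he
          refine h.ann g (max M (T.sup M')) fun w hw => ?_
          have := hbig _ (by omega) _ (hrw w n e he)
          rw [sub_mul, Finset.sum_mul, this]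
          simp
        have := hβ (fun i => if i = j then 1 else if i ∈ T then - c i else 0) fun n e he => by
          rw [← hall n e he, ← Finset.sum_subset (Finset.subset_univ (insert j T)),
            Finset.sum_insert hj, if_pos rfl, one_smul, sub_eq_add_neg, ← Finset.sum_neg_distrib]
          · congr 1
            refine Finset.sum_congr rfl fun i hi => ?_
            rw [if_neg (by rintro rfl; exact hj hi), if_pos hi, neg_smul]
          · intro i _ hi
            rw [Finset.mem_insert, not_or] at hi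
            rw [if_neg hi.1, if_neg hi.2, zero_smul]
        simpa using congrFun this j
  obtain ⟨M, hM⟩ := key Finset.univ
  refine ⟨M, fun n hn i a ha => ?_⟩
  obtain ⟨e, he, hea⟩ := hM n hn (Pi.single i a) fun k _ => by
    by_cases hki : k = i
    · subst hki; simpa using ha
    · simp [hki]
  rwa [← funext fun k => hea k (Finset.mem_univ k)]

end Cfsg.Agent.Zel.PI
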