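import Mathlib
import Cfsg.Agent.Zel.PI.Dens

/-!
# Windows: a minimal identity moves degree from the left factor to the right factor
-/

set_option autoImplicit false

namespace Cfsg.Agent.Zel.PI

open Submodule

variable {F A α : Type*} [Field F] [Ring A] [Algebra F A] {x : α → A}

/-- an identity on the commutators of length at least `a` -/
def Ident (x : α → A) (a : ℕ) (S : Finset ℕ) (f : List ℕ → F) : Prop :=
  ∀ t : ℕ → FreeMagma α, (∀ i, a ≤ (t i).length) → val S f (fun i => cm x (t i)) = 0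

theorem update_cm (t : ℕ → FreeMagma α) (i : ℕ) (j : α) :
    Function.update (fun k => cm x (t k)) i (x j * cm x (t i) - cm x (t i) * x j) =
      fun k => cm x (Function.update t i (FreeMagma.of j * t i) k) := by
  funext k
  by_cases h : k = i
  · subst h
    simp [cm_mul, cm_of]
  · simp [h]

theorem sum_update_length (t : ℕ → FreeMagma α) {S : Finset ℕ} {i : ℕ} (hi : i ∈ S) (j : α) :
    ∑ k ∈ S, (Function.update t i (FreeMagma.of j * t i) k).length =
      ∑ k ∈ S, (t k).length + 1 := by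
  rw [← Finset.add_sum_erase _ _ hi, ← Finset.add_sum_erase _ _ hi, Function.update_self,
    Finset.sum_congr rfl fun k hk => by rw [Function.update_of_ne (Finset.ne_of_mem_erase hk)]]
  have : (FreeMagma.of j * t i).length = 1 + (t i).length := rfl
  omega

theorem le_update_length {a : ℕ} {t : ℕ → FreeMagma α} (ht : ∀ i, a ≤ (t i).length) (i : ℕ) (j : α)
    (k : ℕ) : a ≤ (Function.update t i (FreeMagma.of j * t i) k).length := by
  by_cases h : k = i
  · subst h
    have : (FreeMagma.of j * t k).length = 1 + (t k).length := rfl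
    have := ht k
    rw [Function.update_self]
    omega
  · rw [Function.update_of_ne h]
    exact ht k

theorem comm_perms {S : Finset ℕ} {u : List ℕ} (hu : u ∈ perms S) (t : ℕ → FreeMagma α) (j : α) :
    x j * wd (fun k => cm x (t k)) u = wd (fun k => cm x (t k)) u * x j +
      ∑ i ∈ S, wd (fun k => cm x (Function.update t i (FreeMagma.of j * t i) k)) u := by
  obtain ⟨h1, h2⟩ := mem_perms.1 hu
  rw [comm_wd _ _ _ h1, h2]
  simp only [update_cm]

theorem comm_val (S : Finset ℕ) (f : List ℕ → F) (t : ℕ → FreeMagma α) (j : α) :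
    val S f (fun k => cm x (t k)) * x j = x j * val S f (fun k => cm x (t k)) -
      ∑ i ∈ S, val S f (fun k => cm x (Function.update t i (FreeMagma.of j * t i) k)) := by
  rw [eq_sub_iff_add_eq]
  simp only [val]
  rw [Finset.sum_comm, Finset.mul_sum, Finset.sum_mul, ← Finset.sum_add_distrib]
  refine Finset.sum_congr rfl fun u hu => ?_
  rw [mul_smul_comm, comm_perms hu, smul_add, smul_mul_assoc, Finset.smul_sum]

/-- the left ideal generated by the values of a polynomial that is not an identity -/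
theorem left_win (h : IsJI F x) {b : ℕ} {S : Finset ℕ} {f : List ℕ → F} (hf : ¬ Ident x b S f) :
    ∃ M, ∀ k, M ≤ k → W F x k ≤ span F {z | ∃ (t : ℕ → FreeMagma α) (c : A) (k' : ℕ),
      (∀ i, b ≤ (t i).length) ∧ c ∈ W F x k' ∧ k' + ∑ i ∈ S, (t i).length = k ∧
        z = c * val S f (fun i => cm x (t i))} := by
  refine h.shift 0 (fun k => span F {z | ∃ (t : ℕ → FreeMagma α) (c : A) (k' : ℕ),
      (∀ i, b ≤ (t i).length) ∧ c ∈ W F x k' ∧ k' + ∑ i ∈ S, (t i).length = k ∧
        z = c * val S f (fun i => cm x (t i))}) ?_ ?_ ?_ ?_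
  · intro n
    rw [span_le]
    rintro _ ⟨t, c, k', -, hc, hk, rfl⟩
    exact mul_mem_W' hc (val_mem_W S f t) hk
  · intro n j a ha
    induction ha using span_induction with
    | mem _ h =>
      obtain ⟨t, c, k', ht, hc, hk, rfl⟩ := h
      exact subset_span ⟨t, x j * c, 1 + k', ht, mul_mem_W (x_mem_W j) hc, by omega,
        (mul_assoc _ _ _).symm⟩
    | zero => simp
    | add a b _ _ h1 h2 => rw [mul_add]; exact add_mem h1 h2
    | smul c a _ h => rw [mul_smul_comm]; exact smul_mem _ _ h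
  · intro n j a ha
    induction ha using span_induction with
    | mem _ h =>
      obtain ⟨t, c, k', ht, hc, hk, rfl⟩ := h
      rw [mul_assoc, comm_val, mul_sub, Finset.mul_sum]
      refine sub_mem (subset_span ⟨t, c * x j, k' + 1, ht, mul_mem_W hc (x_mem_W j), by omega,
        (mul_assoc _ _ _).symm⟩) (sum_mem fun i hi => subset_span ⟨_, c, k',
          le_update_length ht i j, hc, ?_, rfl⟩)
      rw [sum_update_length t hi]
      omega
    | zero => simp
    | add a b _ _ h1 h2 => rw [add_mul]; exact add_mem h1 h2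
    | smul c a _ h => rw [smul_mul_assoc]; exact smul_mem _ _ h
  · unfold Ident at hf
    push Not at hf
    obtain ⟨t, ht, h0⟩ := hf
    exact ⟨_, (Submodule.ne_bot_iff _).2 ⟨_, subset_span ⟨t, 1, 0, ht, one_mem_W, rfl,
      (one_mul _).symm⟩, h0⟩⟩

/-- the right module generated by the vectors of all arrangements -/
def RE (F : Type*) [Field F] [Algebra F A] (x : α → A) (P : (ℕ → FreeMagma α) → Prop)
    (S : Finset ℕ) (n : ℕ) : Submodule F (perms S → A) :=
  span F {e | ∃ (t : ℕ → FreeMagma α) (c : A) (k : ℕ), P t ∧ c ∈ W F x k ∧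
    ∑ i ∈ S, (t i).length + k = n ∧ e = fun τ : perms S => wd (fun i => cm x (t i)) τ.1 * c}

theorem RE_mul {P : (ℕ → FreeMagma α) → Prop} {S : Finset ℕ} {n m : ℕ} {e : perms S → A}
    (he : e ∈ RE F x P S n) {c : A} (hc : c ∈ W F x m) : (fun τ => e τ * c) ∈ RE F x P S (n + m) := by
  induction he using span_induction with
  | mem _ h =>
    obtain ⟨t, c', k, ht, hc', hk, rfl⟩ := h
    exact subset_span ⟨t, c' * c, k + m, ht, mul_mem_W hc' hc, by omega, funext fun τ =>
      mul_assoc _ _ _⟩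
  | zero =>
    have : (fun τ : perms S => (0 : perms S → A) τ * c) = 0 := by funext τ; simp
    rw [this]; exact zero_mem _
  | add a b _ _ h1 h2 =>
    have : (fun τ : perms S => (a + b) τ * c) = (fun τ => a τ * c) + fun τ => b τ * c := by
      funext τ; simp [add_mul]
    rw [this]; exact add_mem h1 h2
  | smul d a _ h =>
    have : (fun τ : perms S => (d • a) τ * c) = d • fun τ => a τ * c := by
      funext τ; simp
    rw [this]; exact smul_mem _ _ h

theorem right_win [IsAlgClosed F] [Finite α] (g : Gr F x) (h : IsJI F x) (hs : ¬ Shift F x)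
    {a : ℕ} {S : Finset ℕ} (hmin : ∀ f : List ℕ → F, Ident x a S f → ∀ w ∈ perms S, f w = 0) :
    ∃ M, ∀ l, M ≤ l → ∀ τ : perms S, ∀ c ∈ W F x l, Pi.single τ c ∈
      RE F x (fun t => (∀ i, a ≤ (t i).length) ∧ ∀ i ∈ S, (t i).length ≤ M) S l := by
  obtain ⟨M, hM⟩ := dens g h hs (ι := perms S) (fun _ => 0)
    (RE F x (fun t => ∀ i, a ≤ (t i).length) S)
    (by
      intro n e he τ
      induction he using span_induction with
      | mem _ h =>
        obtain ⟨t, c', k, ht, hc', hk, rfl⟩ := h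
        exact mul_mem_W' (wd_mem_W_perms τ.2 t) hc' hk
      | zero => exact zero_mem _
      | add a b _ _ h1 h2 => exact add_mem h1 h2
      | smul d a _ h => exact smul_mem _ d h)
    (by
      intro n j e he
      induction he using span_induction with
      | mem _ h =>
        obtain ⟨t, c, k, ht, hc, hk, rfl⟩ := h
        have : (fun τ : perms S => x j * (wd (fun i => cm x (t i)) τ.1 * c)) =
            (fun τ : perms S => wd (fun i => cm x (t i)) τ.1 * (x j * c)) + ∑ i ∈ S,
              fun τ : perms S =>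
                wd (fun k => cm x (Function.update t i (FreeMagma.of j * t i) k)) τ.1 * c := by
          funext τ
          rw [← mul_assoc, comm_perms τ.2, add_mul, Finset.sum_mul, Pi.add_apply, Finset.sum_apply,
            mul_assoc]
        rw [this]
        refine add_mem (subset_span ⟨t, x j * c, 1 + k, ht, mul_mem_W (x_mem_W j) hc, by omega,
          rfl⟩) (sum_mem fun i hi => subset_span ⟨_, c, k, le_update_length ht i j, hc, ?_, rfl⟩)
        rw [sum_update_length t hi]
        omega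
      | zero =>
        have : (fun τ : perms S => x j * (0 : perms S → A) τ) = 0 := by funext τ; simp
        rw [this]; exact zero_mem _
      | add a b _ _ h1 h2 =>
        have : (fun τ : perms S => x j * (a + b) τ) = (fun τ => x j * a τ) + fun τ => x j * b τ := by
          funext τ; simp [mul_add]
        rw [this]; exact add_mem h1 h2
      | smul d a _ h =>
        have : (fun τ : perms S => x j * (d • a) τ) = d • fun τ => x j * a τ := by
          funext τ; simp
        rw [this]; exact smul_mem _ _ h)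
    (fun n j e he => RE_mul he (x_mem_W j))
    (by
      intro β hβ
      have := hmin (fun w => if hw : w ∈ perms S then β ⟨w, hw⟩ else 0) fun t ht => by
        have := hβ _ _ (subset_span ⟨t, 1, 0, ht, one_mem_W, rfl, rfl⟩)
        rw [val, ← Finset.sum_coe_sort, ← this]
        refine Finset.sum_congr rfl fun τ _ => ?_
        rw [dif_pos τ.2, mul_one]
      funext τ
      simpa using this τ.1 τ.2)
  refine ⟨M, fun l hl τ c hc => ?_⟩
  obtain ⟨m, rfl⟩ := Nat.exists_eq_add_of_le hl
  refine W_add_le (I := (RE F x (fun t => (∀ i, a ≤ (t i).length) ∧ ∀ i ∈ S, (t i).length ≤ M) S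
    (M + m)).comap (LinearMap.single F (fun _ : perms S => A) τ)) ?_ hc
  intro c hc c' hc'
  have h1 : Pi.single τ c ∈
      RE F x (fun t => (∀ i, a ≤ (t i).length) ∧ ∀ i ∈ S, (t i).length ≤ M) S M := by
    refine span_mono ?_ (hM M le_rfl τ c hc)
    rintro _ ⟨t, c, k, ht, hc, hk, rfl⟩
    refine ⟨t, c, k, ⟨ht, fun i hi => ?_⟩, hc, hk, rfl⟩
    have := Finset.single_le_sum (f := fun i => (t i).length) (fun _ _ => Nat.zero_le _) hi
    omega
  have h2 := RE_mul h1 hc'
  have : (fun σ => (Pi.single τ c : perms S → A) σ * c') = Pi.single τ (c * c') := by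
    funext σ
    by_cases e : σ = τ
    · subst e; simp
    · simp [e]
  rwa [this] at h2

theorem sum_lt_of_window {U S₁ : Finset ℕ} {l : ℕ → ℕ} {M : ℕ} (hne : U ≠ S₁)
    (hc : U.card ≤ S₁.card) (h1 : ∀ i ∈ S₁, M < l i) (h2 : ∀ i ∈ U, i ∉ S₁ → l i ≤ M) :
    ∑ i ∈ U, l i < ∑ i ∈ S₁, l i := by
  rw [← Finset.sum_inter_add_sum_sdiff U S₁, ← Finset.sum_inter_add_sum_sdiff S₁ U,
    Finset.inter_comm S₁ U]
  have e1 : ∑ i ∈ U \ S₁, l i ≤ (U \ S₁).card • M :=
    Finset.sum_le_card_nsmul _ _ _ fun i hi =>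
      h2 i (Finset.mem_sdiff.1 hi).1 (Finset.mem_sdiff.1 hi).2
  have e2 : (S₁ \ U).card • (M + 1) ≤ ∑ i ∈ S₁ \ U, l i :=
    Finset.card_nsmul_le_sum _ _ _ fun i hi => h1 i (Finset.mem_sdiff.1 hi).1
  have e3 : (U \ S₁).card ≤ (S₁ \ U).card := Finset.card_sdiff_le_card_sdiff_iff.2 hc
  have e4 : 0 < (S₁ \ U).card := by
    rw [Finset.card_pos, Finset.sdiff_nonempty]
    intro hsub
    exact hne (Finset.eq_of_subset_of_card_le hsub hc).symm
  simp only [smul_eq_mul] at e1 e2
  nlinarith

theorem wd_congr {β : Type*} {z z' : β → A} {u : List β} (h : ∀ i ∈ u, z i = z' i) :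
    wd z u = wd z' u := by
  unfold wd
  rw [List.map_congr_left h]

/-- the key step -/
theorem window [IsAlgClosed F] [Finite α] (g : Gr F x) (h : IsJI F x) (hs : ¬ Shift F x)
    {a : ℕ} {S : Finset ℕ} {f : List ℕ → F} (hS : S.Nonempty) (hf : ∃ w ∈ perms S, f w ≠ 0)
    (hid : Ident x a S f)
    (hmin : ∀ (b : ℕ) (S' : Finset ℕ) (f' : List ℕ → F), S'.card < S.card → Ident x b S' f' →
      ∀ w ∈ perms S', f' w = 0) :
    ∃ M₁ M₂ : ℕ, ∀ {ι : Type} (v : ι → FreeMagma α), (∀ i, a ≤ (v i).length) →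
      ∀ k l, M₁ ≤ k → M₂ ≤ l → ∀ c ∈ W F x k, ∀ c' ∈ W F x l,
        (fun i => c * cm x (v i) * c') ∈ span F {e : ι → A | ∃ k' l', ∃ d ∈ W F x k',
          ∃ d' ∈ W F x l', k' < k ∧ k' + l' = k + l ∧ e = fun i => d * cm x (v i) * d'} := by
  classical
  obtain ⟨i₀, hi₀⟩ := hS
  -- a word with the longest part in front of `i₀`
  obtain ⟨u₀, τ₀, hw₀, hf₀, hmax⟩ : ∃ u₀ τ₀ : List ℕ, u₀ ++ i₀ :: τ₀ ∈ perms S ∧
      f (u₀ ++ i₀ :: τ₀) ≠ 0 ∧ ∀ u τ : List ℕ, u ++ i₀ :: τ ∈ perms S → f (u ++ i₀ :: τ) ≠ 0 →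
        u.length ≤ u₀.length := by
    obtain ⟨w, hw, hmax⟩ := Finset.exists_max_image ((perms S).filter fun w => f w ≠ 0)
      (fun w => w.idxOf i₀) (by
        obtain ⟨w, hw, h0⟩ := hf
        exact ⟨w, Finset.mem_filter.2 ⟨hw, h0⟩⟩)
    obtain ⟨hw, h0⟩ := Finset.mem_filter.1 hw
    have hidx : ∀ u τ : List ℕ, u ++ i₀ :: τ ∈ perms S → (u ++ i₀ :: τ).idxOf i₀ = u.length := by
      intro u τ hm
      have hn := (mem_perms.1 hm).1
      rw [List.idxOf_append_of_notMem, List.idxOf_cons_self, add_zero]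
      intro hu
      exact (List.nodup_append.1 hn).2.2 _ hu _ (List.mem_cons_self) rfl
    obtain ⟨u₀, τ₀, rfl⟩ := List.append_of_mem (a := i₀) (l := w) (by
      rw [← List.mem_toFinset, (mem_perms.1 hw).2]; exact hi₀)
    refine ⟨u₀, τ₀, hw, h0, fun u τ hm h0' => ?_⟩
    have := hmax _ (Finset.mem_filter.2 ⟨hm, h0'⟩)
    rwa [hidx _ _ hm, hidx _ _ hw] at this
  have split : ∀ u τ : List ℕ, u ++ i₀ :: τ ∈ perms S ↔ u.Nodup ∧ τ.Nodup ∧ i₀ ∉ u ∧ i₀ ∉ τ ∧
      Disjoint u.toFinset τ.toFinset ∧ u.toFinset ∪ insert i₀ τ.toFinset = S := by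
    intro u τ
    rw [mem_perms, List.nodup_append, List.nodup_cons, List.toFinset_append, List.toFinset_cons,
      Finset.disjoint_left]
    simp only [List.mem_cons, List.mem_toFinset]
    constructor
    · rintro ⟨⟨h1, ⟨h2, h3⟩, h4⟩, h5⟩
      exact ⟨h1, h3, fun hu => h4 _ hu _ (Or.inl rfl) rfl, h2,
        fun b hb hb' => h4 _ hb _ (Or.inr hb') rfl, h5⟩
    · rintro ⟨h1, h2, h3, h4, h5, h6⟩
      refine ⟨⟨h1, ⟨h4, h2⟩, ?_⟩, h6⟩
      rintro b hb _ (rfl | hb') rfl
      · exact h3 hb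
      · exact h5 hb hb'
  obtain ⟨hn1, hn2, hi1, hi2, hdisj, hun⟩ := (split _ _).1 hw₀
  set S₁ := u₀.toFinset with hS₁
  set S₂ := τ₀.toFinset with hS₂
  have hu₀ : u₀ ∈ perms S₁ := mem_perms.2 ⟨hn1, rfl⟩
  have hτ₀ : τ₀ ∈ perms S₂ := mem_perms.2 ⟨hn2, rfl⟩
  have hi1' : i₀ ∉ S₁ := by simpa [hS₁] using hi1
  have hi2' : i₀ ∉ S₂ := by simpa [hS₂] using hi2
  have hlen : S₁.card + 1 + S₂.card = S.card := by
    rw [← length_of_mem_perms hw₀, ← length_of_mem_perms hu₀, ← length_of_mem_perms hτ₀]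
    simp only [List.length_append, List.length_cons]
    omega
  obtain ⟨M₂, hM₂⟩ := right_win g h hs (a := a) (S := S₂) fun f' => hmin a S₂ f' (by omega)
  obtain ⟨M₁, hM₁⟩ := left_win h (b := max a (M₂ + 1)) (S := S₁)
    (f := fun u => f (u ++ i₀ :: τ₀)) fun hI => hf₀ (hmin _ S₁ _ (by omega) hI u₀ hu₀)
  refine ⟨M₁, M₂, fun {ι} v hv k l hk hl c hc c' hc' => ?_⟩
  set H := span F {e : ι → A | ∃ k' l', ∃ d ∈ W F x k',
    ∃ d' ∈ W F x l', k' < k ∧ k' + l' = k + l ∧ e = fun i => d * cm x (v i) * d'} with hH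
  have hc1 := hM₁ k hk hc
  clear hc
  induction hc1 using span_induction with
  | zero =>
    have : (fun i => (0 : A) * cm x (v i) * c') = 0 := by funext i; simp
    rw [this]; exact zero_mem _
  | add c₁ c₂ _ _ h1 h2 =>
    have : (fun i => (c₁ + c₂) * cm x (v i) * c') =
        (fun i => c₁ * cm x (v i) * c') + fun i => c₂ * cm x (v i) * c' := by
      funext i; simp [add_mul]
    rw [this]; exact add_mem h1 h2
  | smul d c₁ _ h1 =>
    have : (fun i => (d • c₁) * cm x (v i) * c') = d • fun i => c₁ * cm x (v i) * c' := by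
      funext i; simp
    rw [this]; exact smul_mem _ _ h1
  | mem _ hz =>
  obtain ⟨t, c, k', ht, hc, hk', rfl⟩ := hz
  let Λ : (perms S₂ → A) →ₗ[F] (ι → A) := LinearMap.pi fun i => ∑ τ : perms S₂,
    (LinearMap.mulLeft F (c * val S₁ (fun u => f (u ++ i₀ :: τ.1)) (fun i => cm x (t i)) *
      cm x (v i))).comp (LinearMap.proj τ)
  have hΛ : ∀ e i, Λ e i = ∑ τ : perms S₂,
      c * val S₁ (fun u => f (u ++ i₀ :: τ.1)) (fun i => cm x (t i)) * cm x (v i) * e τ := by
    intro e i
    simp [Λ, mul_assoc]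
  have e0 : (fun i => c * val S₁ (fun u => f (u ++ i₀ :: τ₀)) (fun i => cm x (t i)) * cm x (v i) * c')
      = Λ (Pi.single ⟨τ₀, hτ₀⟩ c') := by
    funext i
    rw [hΛ, Finset.sum_eq_single ⟨τ₀, hτ₀⟩, Pi.single_eq_same]
    · intro τ _ hτ
      rw [Pi.single_eq_of_ne hτ, mul_zero]
    · simp
  rw [e0]
  refine (span_le.2 ?_ : RE F x _ S₂ l ≤ H.comap Λ) (hM₂ l hl ⟨τ₀, hτ₀⟩ c' hc')
  rintro _ ⟨t', d, l', ⟨ht', ht''⟩, hd, hl', rfl⟩
  -- the substitution
  let T₀ : ℕ → FreeMagma α := fun j => if j ∈ S₁ then t j else t' j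
  let T : ι → ℕ → FreeMagma α := fun i => Function.update T₀ i₀ (v i)
  have hT : ∀ i j, a ≤ (T i j).length := by
    intro i j
    by_cases e : j = i₀
    · subst e
      simpa [T] using hv i
    · simp only [T, Function.update_of_ne e, T₀]
      split_ifs
      · exact le_of_max_le_left (ht j)
      · exact ht' j
  have hwd : ∀ i (u τ : List ℕ), u ++ i₀ :: τ ∈ perms S →
      wd (fun j => cm x (T i j)) (u ++ i₀ :: τ) =
        wd (fun j => cm x (T₀ j)) u * cm x (v i) * wd (fun j => cm x (T₀ j)) τ := by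
    intro i u τ hm
    obtain ⟨-, -, h3, h4, -, -⟩ := (split _ _).1 hm
    rw [wd_append, wd_cons, mul_assoc]
    congr 1
    · refine wd_congr fun j hj => ?_
      simp only [T]
      rw [Function.update_of_ne (by rintro rfl; exact h3 hj)]
    · congr 1
      · simp [T]
      · refine wd_congr fun j hj => ?_
        simp only [T]
        rw [Function.update_of_ne (by rintro rfl; exact h4 hj)]
  let good : Finset (List ℕ) := (perms S₁ ×ˢ perms S₂).image fun y => y.1 ++ i₀ :: y.2
  have hgm : ∀ u ∈ perms S₁, ∀ τ ∈ perms S₂, u ++ i₀ :: τ ∈ perms S := by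
    intro u hu τ hτ
    obtain ⟨h1, h2⟩ := mem_perms.1 hu
    obtain ⟨h3, h4⟩ := mem_perms.1 hτ
    refine (split _ _).2 ⟨h1, h3, ?_, ?_, ?_, ?_⟩
    · rwa [← List.mem_toFinset, h2]
    · rwa [← List.mem_toFinset, h4]
    · rwa [h2, h4]
    · rwa [h2, h4]
  have hgood : good ⊆ perms S := by
    intro w hw
    obtain ⟨y, hy, rfl⟩ := Finset.mem_image.1 hw
    exact hgm _ (Finset.mem_product.1 hy).1 _ (Finset.mem_product.1 hy).2
  have hsum : ∀ i, ∑ w ∈ good, f w • wd (fun j => cm x (T i j)) w = ∑ τ : perms S₂,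
      val S₁ (fun u => f (u ++ i₀ :: τ.1)) (fun i => cm x (t i)) * cm x (v i) *
        wd (fun i => cm x (t' i)) τ.1 := by
    intro i
    rw [Finset.sum_image, Finset.sum_product_right, ← Finset.sum_coe_sort (perms S₂)]
    · refine Finset.sum_congr rfl fun τ _ => ?_
      rw [val, Finset.sum_mul, Finset.sum_mul]
      refine Finset.sum_congr rfl fun u hu => ?_
      rw [hwd i u τ.1 (hgm u hu _ τ.2), smul_mul_assoc, smul_mul_assoc]
      have a1 : wd (fun j => cm x (T₀ j)) u = wd (fun j => cm x (t j)) u := by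
        refine wd_congr fun j hj => ?_
        simp only [T₀]
        rw [if_pos (by rw [← (mem_perms.1 hu).2]; simpa using hj)]
      have a2 : wd (fun j => cm x (T₀ j)) τ.1 = wd (fun j => cm x (t' j)) τ.1 := by
        refine wd_congr fun j hj => ?_
        simp only [T₀]
        rw [if_neg]
        exact Finset.disjoint_right.1 hdisj (by rw [← (mem_perms.1 τ.2).2]; simpa using hj)
      rw [a1, a2]
    · rintro ⟨u, τ⟩ hy ⟨u', τ'⟩ hy' e
      simp only [Finset.coe_product, Set.mem_prod, Finset.mem_coe] at hy hy'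
      obtain ⟨e1, e2⟩ := List.append_inj e
        ((length_of_mem_perms hy.1).trans (length_of_mem_perms hy'.1).symm)
      exact Prod.ext e1 (List.cons_injective e2)
  have e1 : Λ (fun τ : perms S₂ => wd (fun i => cm x (t' i)) τ.1 * d) =
      - ∑ w ∈ perms S \ good, f w • fun i => c * wd (fun j => cm x (T i j)) w * d := by
    funext i
    have h0 := hid (T i) (hT i)
    rw [val, ← Finset.sum_sdiff hgood, hsum, add_comm, add_eq_zero_iff_eq_neg] at h0
    have h1 := congrArg (fun z => c * z * d) h0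
    simp only [Finset.mul_sum, Finset.sum_mul, mul_neg, neg_mul] at h1
    rw [hΛ, Pi.neg_apply, Finset.sum_apply]
    simpa [mul_assoc] using h1
  rw [SetLike.mem_coe, mem_comap, e1]
  refine neg_mem (sum_mem fun w hw => ?_)
  by_cases hfw : f w = 0
  · rw [hfw, zero_smul]; exact zero_mem _
  refine smul_mem _ _ (subset_span ?_)
  obtain ⟨hw, hng⟩ := Finset.mem_sdiff.1 hw
  obtain ⟨u, τ, rfl⟩ := List.append_of_mem (a := i₀) (l := w) (by
    rw [← List.mem_toFinset, (mem_perms.1 hw).2]; exact hi₀)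
  obtain ⟨h1, h2, h3, h4, h5, h6⟩ := (split _ _).1 hw
  have hu : u ∈ perms u.toFinset := mem_perms.2 ⟨h1, rfl⟩
  have hτ : τ ∈ perms τ.toFinset := mem_perms.2 ⟨h2, rfl⟩
  have s1 : ∑ j ∈ S₁, (T₀ j).length = ∑ j ∈ S₁, (t j).length :=
    Finset.sum_congr rfl fun j hj => by simp only [T₀]; rw [if_pos hj]
  have s2 : ∑ j ∈ S₂, (T₀ j).length = ∑ j ∈ S₂, (t' j).length :=
    Finset.sum_congr rfl fun j hj => by
      simp only [T₀]; rw [if_neg (Finset.disjoint_right.1 hdisj hj)]
  have s3 := (sum_map_perms hw fun j => (T₀ j).length).trans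
    (sum_map_perms hw₀ fun j => (T₀ j).length).symm
  simp only [List.map_append, List.map_cons, List.sum_append, List.sum_cons] at s3
  rw [sum_map_perms hu, sum_map_perms hτ, sum_map_perms hu₀, sum_map_perms hτ₀] at s3
  have s4 : ∑ j ∈ u.toFinset, (T₀ j).length < ∑ j ∈ S₁, (T₀ j).length := by
    refine sum_lt_of_window (M := M₂) ?_ ?_ ?_ ?_
    · intro e
      refine hng (Finset.mem_image.2 ⟨(u, τ), Finset.mem_product.2 ⟨e ▸ hu, ?_⟩, rfl⟩)
      refine mem_perms.2 ⟨h2, ?_⟩
      rw [e] at h5 h6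
      ext j
      have a1 := Finset.ext_iff.1 (h6.trans hun.symm) j
      have a2 : j ∈ S₁ → j ∉ τ.toFinset := fun hj => Finset.disjoint_left.1 h5 hj
      have a3 : j ∈ S₁ → j ∉ S₂ := fun hj => Finset.disjoint_left.1 hdisj hj
      simp only [Finset.mem_union, Finset.mem_insert] at a1
      by_cases ej : j = i₀
      · subst ej
        simp [h4, hi2']
      · simp only [ej, false_or] at a1
        constructor
        · intro hj
          exact (a1.1 (Or.inr hj)).resolve_left fun h' => a2 h' hj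
        · intro hj
          exact (a1.2 (Or.inr hj)).resolve_left fun h' => a3 h' hj
    · rw [← length_of_mem_perms hu, ← length_of_mem_perms hu₀]
      exact hmax u τ hw hfw
    · intro j hj
      simp only [T₀]
      rw [if_pos hj]
      exact le_of_max_le_right (ht j)
    · intro j hj hj'
      simp only [T₀]
      rw [if_neg hj']
      refine ht'' j ?_
      have a1 : j ∈ S₁ ∪ insert i₀ S₂ := by
        rw [hun, ← h6]
        exact Finset.mem_union_left _ hj
      simp only [Finset.mem_union, Finset.mem_insert] at a1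
      rcases a1 with a1 | rfl | a1
      · exact absurd a1 hj'
      · exact absurd (List.mem_toFinset.1 hj) h3
      · exact a1
  refine ⟨_, _, _, mul_mem_W hc (wd_mem_W_perms hu T₀), _, mul_mem_W (wd_mem_W_perms hτ T₀) hd,
    by omega, by omega, ?_⟩
  funext i
  rw [hwd i u τ hw]
  simp only [mul_assoc]

end Cfsg.Agent.Zel.PI
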