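import Mathlib
import Cfsg.Agent.Zel.PI.Win

/-!
# The count: a just infinite graded algebra with nilpotent commutators has no identity
-/

set_option autoImplicit false

universe u

namespace Cfsg.Agent.Zel.PI

open Submodule Module

section

variable {F A α : Type*} [Field F] [Ring A] [Algebra F A] {x : α → A}

theorem finrank_map₂_le {M N P : Type*} [AddCommGroup M] [Module F M] [AddCommGroup N] [Module F N]
    [AddCommGroup P] [Module F P] (B : M →ₗ[F] N →ₗ[F] P) (p : Submodule F M) (q : Submodule F N)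
    [FiniteDimensional F p] [FiniteDimensional F q] :
    FiniteDimensional F (map₂ B p q) ∧ finrank F (map₂ B p q) ≤ finrank F p * finrank F q := by
  rw [TensorProduct.map₂_eq_range_lift_comp_mapIncl]
  refine ⟨inferInstance, (LinearMap.finrank_range_le _).trans ?_⟩
  rw [Module.finrank_tensorProduct]

theorem le_finrank_U [Finite α] (g : Gr F x) (h : IsJI F x) (X : ℕ) : X ≤ finrank F (U F x X) := by
  induction X with
  | zero => exact Nat.zero_le _
  | succ X ih =>
    have := U_fd (F := F) (x := x) (X + 1)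
    refine Nat.succ_le_of_lt (ih.trans_lt (Submodule.finrank_lt_finrank_of_lt ?_))
    refine lt_of_le_of_ne (U_le fun k hk => W_le_U (by omega)) fun e => ?_
    obtain ⟨a, ha, h0⟩ := h.exists_ne X
    have h1 : U F x X ≤ LinearMap.ker (g.p X) := U_le fun k hk b hb => g.p_ne hb hk.ne
    have h2 : a ∈ U F x X := e ▸ W_le_U (Nat.lt_succ_self X) ha
    exact h0 ((g.p_self ha).symm.trans (h1 h2))

theorem exists_indep [Finite α] (hf : ¬ FiniteDimensional F (span F (Set.range (cm x)))) (a r : ℕ) :
    ∃ v : Fin r → FreeMagma α, (∀ i, a ≤ (v i).length) ∧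
      LinearIndependent F fun i => cm x (v i) := by
  obtain ⟨b, hb, hsp, hli⟩ := exists_linearIndependent F (cm x '' {t | a ≤ t.length})
  have hinf : b.Infinite := by
    intro hfin
    apply hf
    have := FiniteDimensional.span_of_finite F hfin
    have := U_fd (F := F) (x := x) a
    refine Submodule.finiteDimensional_of_le (S₂ := span F b ⊔ U F x a) (span_le.2 ?_)
    rintro _ ⟨t, rfl⟩
    by_cases ht : a ≤ t.length
    · exact mem_sup_left (hsp ▸ subset_span ⟨t, ht, rfl⟩)
    · exact mem_sup_right (W_le_U (by omega) (cm_mem_W t))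
  let e : Fin r → b := fun i => hinf.natEmbedding b i
  have he : Function.Injective e := (hinf.natEmbedding b).injective.comp Fin.val_injective
  choose v hv hve using fun i => hb (e i).2
  refine ⟨v, hv, ?_⟩
  simp only [hve]
  exact hli.comp e he

theorem count [IsAlgClosed F] [Finite α] (g : Gr F x) (h : IsJI F x) (hs : ¬ Shift F x)
    (hf : ¬ FiniteDimensional F (span F (Set.range (cm x)))) : ¬ HasPI F x := by
  classical
  intro hP
  have hex : ∃ N, ∃ (a : ℕ) (S : Finset ℕ) (f : List ℕ → F), S.card = N ∧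
      (∃ w ∈ perms S, f w ≠ 0) ∧ Ident x a S f := by
    obtain ⟨S, f, h1, h2⟩ := hP
    exact ⟨_, 0, S, f, rfl, h1, fun t _ => h2 t⟩
  obtain ⟨a, S, f, hc, hf0, hid⟩ := Nat.find_spec hex
  have hmin : ∀ (b : ℕ) (S' : Finset ℕ) (f' : List ℕ → F), S'.card < S.card → Ident x b S' f' →
      ∀ w ∈ perms S', f' w = 0 := by
    intro b S' f' hlt hI w hw
    by_contra h0
    exact Nat.find_min hex (hc ▸ hlt) ⟨b, S', f', rfl, ⟨w, hw, h0⟩, hI⟩
  have hS : S.Nonempty := by
    rw [Finset.nonempty_iff_ne_empty]
    rintro rfl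
    obtain ⟨v, hv, -⟩ := exists_indep hf a 1
    obtain ⟨w, hw, h0⟩ := hf0
    have hp : perms ∅ = {[]} := by
      ext u
      simp only [mem_perms, List.toFinset_eq_empty_iff, Finset.mem_singleton]
      constructor
      · exact fun h => h.2
      · rintro rfl; simp
    have h1 := hid (fun _ => v 0) fun _ => hv 0
    rw [hp, Finset.mem_singleton] at hw
    rw [val, hp, Finset.sum_singleton, wd_nil, ← hw, smul_eq_zero] at h1
    obtain ⟨c, -, hc0⟩ := h.exists_ne 0
    exact hc0 (by rw [← one_mul c, h1.resolve_left h0, zero_mul])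
  obtain ⟨M₁, M₂, hM⟩ := window g h hs hS hf0 hid hmin
  have hU := fun X => U_fd (F := F) (x := x) X
  set C := finrank F (U F x M₁) + finrank F (U F x M₂) with hC
  obtain ⟨v, hv, hli⟩ := exists_indep hf a (C + 1)
  let B : A →ₗ[F] A →ₗ[F] (Fin (C + 1) → A) :=
    LinearMap.mk₂ F (fun c c' i => c * cm x (v i) * c')
      (fun _ _ _ => funext fun i => by simp [add_mul]) (fun _ _ _ => funext fun i => by simp)
      (fun _ _ _ => funext fun i => by simp [mul_add]) (fun _ _ _ => funext fun i => by simp)
  have hB : ∀ c c', B c c' = fun i => c * cm x (v i) * c' := fun _ _ => rfl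
  let E : ℕ → Submodule F (Fin (C + 1) → A) := fun n => span F {e | ∃ k l, ∃ c ∈ W F x k,
    ∃ c' ∈ W F x l, k + l = n ∧ e = B c c'}
  obtain ⟨M, hE⟩ := dens g h hs (fun i => (v i).length) E
    (by
      intro n e he i
      induction he using span_induction with
      | mem _ h =>
        obtain ⟨k, l, c, hc, c', hc', hk, rfl⟩ := h
        exact mul_mem_W' (mul_mem_W hc (cm_mem_W _)) hc' (by omega)
      | zero => exact zero_mem _
      | add a b _ _ h1 h2 => exact add_mem h1 h2
      | smul d a _ h => exact smul_mem _ d h)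
    (by
      intro n j e he
      refine (span_le.2 ?_ : E n ≤ (E (n + 1)).comap ((LinearMap.mulLeft F (x j)).compLeft _)) he
      rintro _ ⟨k, l, c, hc, c', hc', hk, rfl⟩
      refine subset_span ⟨1 + k, l, _, mul_mem_W (x_mem_W j) hc, c', hc', by omega, ?_⟩
      funext i
      simp [hB, mul_assoc])
    (by
      intro n j e he
      refine (span_le.2 ?_ : E n ≤ (E (n + 1)).comap ((LinearMap.mulRight F (x j)).compLeft _)) he
      rintro _ ⟨k, l, c, hc, c', hc', hk, rfl⟩
      refine subset_span ⟨k, l + 1, c, hc, _, mul_mem_W hc' (x_mem_W j), by omega, ?_⟩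
      funext i
      simp [hB, mul_assoc])
    (by
      intro β hβ
      have := hβ 0 _ (subset_span ⟨0, 0, 1, one_mem_W, 1, one_mem_W, rfl, rfl⟩)
      simp only [hB, one_mul, mul_one] at this
      exact funext (Fintype.linearIndependent_iff.1 hli β this))
  have hH : ∀ X k l, k + l < X → ∀ c ∈ W F x k, ∀ c' ∈ W F x l,
      B c c' ∈ map₂ B (U F x M₁) (U F x X) ⊔ map₂ B (U F x X) (U F x M₂) := by
    intro X k
    induction k using Nat.strong_induction_on with
    | _ k ih =>
      intro l hX c hc c' hc'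
      by_cases hk : k < M₁
      · exact mem_sup_left (apply_mem_map₂ _ (W_le_U hk hc) (W_le_U (by omega) hc'))
      by_cases hl : l < M₂
      · exact mem_sup_right (apply_mem_map₂ _ (W_le_U (by omega) hc) (W_le_U hl hc'))
      refine span_le.2 ?_ (hM v hv k l (by omega) (by omega) c hc c' hc')
      rintro _ ⟨k', l', d, hd, d', hd', h1, h2, rfl⟩
      exact ih k' h1 l' (by omega) d hd d' hd'
  -- the count
  let L := M + ∑ i, (v i).length
  let Q : ℕ → Submodule F (Fin (C + 1) → A) := fun X => pi Set.univ fun _ => U F x X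
  have hQ : ∀ X, FiniteDimensional F (Q X) ∧ finrank F (Q X) = (C + 1) * finrank F (U F x X) := by
    intro X
    let e : Q X ≃ₗ[F] (Fin (C + 1) → U F x X) :=
      { toFun := fun y i => ⟨y.1 i, y.2 i trivial⟩
        invFun := fun y => ⟨fun i => y i, fun i _ => (y i).2⟩
        map_add' := fun _ _ => rfl
        map_smul' := fun _ _ => rfl
        left_inv := fun _ => rfl
        right_inv := fun _ => rfl }
    refine ⟨e.symm.finiteDimensional, ?_⟩
    rw [e.finrank_eq, Module.finrank_pi_fintype]
    simp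
  have hle : ∀ X, Q X ≤ (map₂ B (U F x M₁) (U F x X) ⊔ map₂ B (U F x X) (U F x M₂)) ⊔ Q L := by
    intro X y hy
    rw [← Finset.univ_sum_single y]
    refine sum_mem fun i _ => ?_
    refine (U_le ?_ : U F x X ≤ comap (LinearMap.single F (fun _ : Fin (C + 1) => A) i)
      ((map₂ B (U F x M₁) (U F x X) ⊔ map₂ B (U F x X) (U F x M₂)) ⊔ Q L)) (hy i trivial)
    intro m hm c hc
    by_cases hL : m < L
    · refine mem_sup_right fun j _ => ?_
      by_cases e : j = i
      · subst e
        simpa using W_le_U hL hc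
      · simp [e]
    · have := Finset.single_le_sum (f := fun i => (v i).length) (fun _ _ => Nat.zero_le _)
        (Finset.mem_univ i)
      obtain ⟨n, rfl⟩ : ∃ n, m = n + (v i).length := ⟨m - (v i).length, by omega⟩
      refine mem_sup_left (span_le.2 ?_ (hE n (by omega) i c hc))
      rintro _ ⟨k, l, d, hd, d', hd', hk, rfl⟩
      exact hH X k l (by omega) d hd d' hd'
  have hX := le_finrank_U g h (finrank F (Q L) + 1)
  set X := finrank F (Q L) + 1 with hXdef
  obtain ⟨f1, r1⟩ := finrank_map₂_le B (U F x M₁) (U F x X)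
  obtain ⟨f2, r2⟩ := finrank_map₂_le B (U F x X) (U F x M₂)
  have f3 := (hQ L).1
  have r3 := Submodule.finrank_mono (hle X)
  have r4 := Submodule.finrank_add_le_finrank_add_finrank
    (map₂ B (U F x M₁) (U F x X) ⊔ map₂ B (U F x X) (U F x M₂)) (Q L)
  have r5 := Submodule.finrank_add_le_finrank_add_finrank
    (map₂ B (U F x M₁) (U F x X)) (map₂ B (U F x X) (U F x M₂))
  have r6 : (C + 1) * finrank F (U F x X) = finrank F (U F x M₁) * finrank F (U F x X) +
      finrank F (U F x X) * finrank F (U F x M₂) + finrank F (U F x X) := by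
    rw [hC]; ring
  rw [(hQ X).2, r6] at r3
  omega

end

/-- the core of Zelmanov's theorem -/
theorem core (hJ : JacBox.{u}) (F : Type) (A : Type u) [Field F] [IsAlgClosed F] [Ring A]
    [Algebra F A] (d : ℕ) (x : Fin d → A) (g : Gr F x) (h : IsJI F x)
    (hn : ∀ t, IsNilpotent (cm x t)) (hP : HasPI F x) : False := by
  refine count g h (not_shift hJ g h hn) (fun hf => ?_) hP
  obtain ⟨K, hK⟩ := hJ.wd_eq_zero hn hf
  exact h.ne K (le_bot_iff.1 (W_le fun w hw => (mem_bot F).2 (hK w hw.ge)))

end Cfsg.Agent.Zel.PI
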