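import Mathlib
import Cfsg.Agent.Zel.Iface

/-!
# Zelmanov's theorem on PI Lie algebras, associative form: definitions and boxes

`wd x w` is the value of the word `w`, `cm x t` the value of the bracketing `t` (commutators in an
associative ring), `perms S` the arrangements of the finite set `S` of variables, and `val S f z` the
value of the multilinear polynomial with coefficients `f` on the arrangements of `S`.
-/

set_option autoImplicit false

universe u

namespace Cfsg.Agent.Zel.PI

/-- the value of a word -/
def wd {A α : Type*} [Monoid A] (x : α → A) (w : List α) : A := (w.map x).prod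

@[simp] theorem wd_nil {A α : Type*} [Monoid A] (x : α → A) : wd x [] = 1 := rfl

@[simp] theorem wd_cons {A α : Type*} [Monoid A] (x : α → A) (a : α) (w : List α) :
    wd x (a :: w) = x a * wd x w := by simp [wd]

@[simp] theorem wd_append {A α : Type*} [Monoid A] (x : α → A) (u v : List α) :
    wd x (u ++ v) = wd x u * wd x v := by simp [wd]

/-- the value of a bracketing in an associative ring -/
def cm {A α : Type*} [Ring A] (x : α → A) : FreeMagma α → A
  | FreeMagma.of a => x a
  | FreeMagma.mul s t => cm x s * cm x t - cm x t * cm x s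

theorem cm_of {A α : Type*} [Ring A] (x : α → A) (a : α) : cm x (FreeMagma.of a) = x a := rfl

theorem cm_mul {A α : Type*} [Ring A] (x : α → A) (s t : FreeMagma α) :
    cm x (s * t) = cm x s * cm x t - cm x t * cm x s := rfl

/-- the arrangements of a finite set of variables -/
noncomputable def perms (S : Finset ℕ) : Finset (List ℕ) := S.toList.permutations.toFinset

theorem mem_perms {S : Finset ℕ} {w : List ℕ} : w ∈ perms S ↔ w.Nodup ∧ w.toFinset = S := by
  rw [perms, List.mem_toFinset, List.mem_permutations]
  constructor
  · intro h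
    exact ⟨h.nodup_iff.2 S.nodup_toList, by rw [List.toFinset_eq_of_perm _ _ h, S.toList_toFinset]⟩
  · rintro ⟨h1, h2⟩
    refine List.perm_of_nodup_nodup_toFinset_eq h1 S.nodup_toList ?_
    rw [h2, S.toList_toFinset]

theorem card_perms (S : Finset ℕ) : (perms S).card = S.card.factorial := by
  rw [perms, List.toFinset_card_of_nodup (List.nodup_permutations _ S.nodup_toList),
    List.length_permutations, Finset.length_toList]

theorem length_of_mem_perms {S : Finset ℕ} {w : List ℕ} (h : w ∈ perms S) : w.length = S.card := by
  obtain ⟨h1, h2⟩ := mem_perms.1 h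
  rw [← h2, List.toFinset_card_of_nodup h1]

/-- the value of a multilinear polynomial in the variables `S` -/
noncomputable def val {F A : Type*} [Field F] [Ring A] [Algebra F A] (S : Finset ℕ) (f : List ℕ → F)
    (z : ℕ → A) : A := ∑ w ∈ perms S, f w • wd z w

/-- the commutators in the `x i` satisfy a non-trivial multilinear identity -/
def HasPI (F : Type*) {A α : Type*} [Field F] [Ring A] [Algebra F A] (x : α → A) : Prop :=
  ∃ (S : Finset ℕ) (f : List ℕ → F), (∃ w ∈ perms S, f w ≠ 0) ∧
    ∀ t : ℕ → FreeMagma α, val S f (fun i => cm x (t i)) = 0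

/-- Jacobson's theorem on weakly closed sets -/
def JacBox : Prop :=
  ∀ (F : Type) (A : Type u) [Field F] [Ring A] [Algebra F A] (W : Set A),
    (∀ a ∈ W, ∀ b ∈ W, a * b - b * a ∈ W) → (∀ a ∈ W, IsNilpotent a) →
    FiniteDimensional F (Submodule.span F W) →
    ∃ K : ℕ, ∀ l : List A, (∀ a ∈ l, a ∈ W) → K ≤ l.length → l.prod = 0

/-- the step of Bahturin and Zaicev: from the degree zero part to the whole algebra -/
def BZBox : Prop :=
  ∀ (F : Type) (A : Type u) [Field F] [Ring A] [Algebra F A] (q n d : ℕ) (x : Fin d → A)
    (deg : Fin d → ZMod q), 0 < q →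
    (∀ y : Fin n → FreeMagma (Fin d), (∀ i, dg deg (y i) = 0) →
      symProd (fun i => cm x (y i)) n Finset.univ = 0) → HasPI F x

/-- Zelmanov's theorem, associative form -/
def ZBox : Prop :=
  ∀ (F : Type) (A : Type u) [Field F] [IsAlgClosed F] [Ring A] [Algebra F A] (d : ℕ) (x : Fin d → A),
    (∀ t : FreeMagma (Fin d), IsNilpotent (cm x t)) → HasPI F x →
    ∃ c : ℕ, ∀ w : List (Fin d), c ≤ w.length → wd x w = 0

end Cfsg.Agent.Zel.PI
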