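import Mathlib
import Cfsg.Agent.Zel.PI.Defs

/-!
# Jacobson's theorem on weakly closed sets

A set of nilpotent elements closed under commutators which spans a finite dimensional space is
nilpotent.
-/

set_option autoImplicit false

universe u

namespace Cfsg.Agent.Zel.PI

section

variable {F A : Type*} [Field F] [Ring A] [Algebra F A]

theorem jac_prod_mem (U : Submodule F A) (l : List A) (h : ∀ a ∈ l, a ∈ U) :
    l.prod ∈ U ^ l.length := by
  induction l with
  | nil => simp [Submodule.one_eq_span, Submodule.mem_span_singleton_self]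
  | cons a l ih =>
    rw [List.prod_cons, List.length_cons, pow_succ']
    exact Submodule.mul_mem_mul (h a (by simp)) (ih fun b hb => h b (by simp [hb]))

theorem jac_pow_bot (U : Submodule F A) {K n : ℕ} (hK : U ^ K = ⊥) (h : K ≤ n) : U ^ n = ⊥ := by
  obtain ⟨m, rfl⟩ := Nat.exists_eq_add_of_le h
  rw [pow_add, hK, Submodule.bot_mul]

/-- adjoining a nilpotent normalizing element keeps a subspace nilpotent -/
theorem jac_step (U : Submodule F A) {K : ℕ} (hK : U ^ K = ⊥) (w : A) (hw : IsNilpotent w)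
    (hn : ∀ s ∈ U, w * s - s * w ∈ U) : ∃ N : ℕ, (U ⊔ Submodule.span F {w}) ^ N = ⊥ := by
  obtain ⟨m, hm⟩ := hw
  set V : Submodule F A := Submodule.span F {w} with hV
  have hVU : V * U ≤ U * V ⊔ U := by
    rw [Submodule.mul_le]
    intro v hv s hs
    obtain ⟨c, rfl⟩ := Submodule.mem_span_singleton.1 hv
    have : w * s = s * w + (w * s - s * w) := by abel
    rw [smul_mul_assoc, this]
    exact Submodule.smul_mem _ _ (Submodule.add_mem_sup
      (Submodule.mul_mem_mul hs (Submodule.mem_span_singleton_self w)) (hn s hs))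
  have hUJ : ∀ k : ℕ, U * (U ^ k * ⊤) = U ^ (k + 1) * ⊤ := fun k => by
    rw [pow_succ', mul_assoc]
  have hVJ : ∀ k : ℕ, V * (U ^ k * ⊤) ≤ U ^ k * ⊤ := by
    intro k
    induction k with
    | zero => simp
    | succ k ih =>
      rw [← hUJ, ← mul_assoc]
      refine (mul_le_mul' hVU le_rfl).trans ?_
      rw [Submodule.sup_mul, mul_assoc]
      exact sup_le (mul_le_mul' le_rfl ih) le_rfl
  have hJJ : ∀ k : ℕ, U ^ (k + 1) * ⊤ ≤ U ^ k * (⊤ : Submodule F A) := fun k => by
    rw [pow_succ, mul_assoc]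
    exact mul_le_mul' le_rfl le_top
  have hViJ : ∀ k i : ℕ, V ^ i * (U ^ k * ⊤) ≤ U ^ k * ⊤ := by
    intro k i
    induction i with
    | zero => simp
    | succ i ih =>
      rw [pow_succ', mul_assoc]
      exact (mul_le_mul' le_rfl ih).trans (hVJ k)
  have hi : ∀ k i : ℕ, (U ⊔ V) ^ i * (U ^ k * ⊤) ≤ V ^ i * (U ^ k * ⊤) ⊔ U ^ (k + 1) * ⊤ := by
    intro k i
    induction i with
    | zero => simp
    | succ i ih =>
      rw [pow_succ', mul_assoc]
      refine (mul_le_mul' le_rfl ih).trans ?_
      rw [Submodule.mul_sup, Submodule.sup_mul, Submodule.sup_mul]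
      refine sup_le (sup_le ?_ ?_) (sup_le ?_ ?_)
      · exact le_sup_of_le_right ((mul_le_mul' le_rfl (hViJ k i)).trans (hUJ k).le)
      · rw [← mul_assoc, ← pow_succ']
        exact le_sup_left
      · exact le_sup_of_le_right ((hUJ (k + 1)).le.trans (hJJ (k + 1)))
      · exact le_sup_of_le_right (hVJ (k + 1))
  have hVm : V ^ m = ⊥ := by
    rw [hV, Submodule.span_pow, Set.singleton_pow, hm, Submodule.span_singleton_eq_bot]
  have hk : ∀ k : ℕ, (U ⊔ V) ^ (m * k) * ⊤ ≤ U ^ k * (⊤ : Submodule F A) := by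
    intro k
    induction k with
    | zero => simp
    | succ k ih =>
      rw [Nat.mul_succ, add_comm, pow_add, mul_assoc]
      refine (mul_le_mul' le_rfl ih).trans ((hi k m).trans ?_)
      rw [hVm, Submodule.bot_mul, bot_sup_eq]
  refine ⟨m * K, eq_bot_iff.2 ?_⟩
  have h1 := hk K
  rw [hK, Submodule.bot_mul] at h1
  intro y hy
  have h2 : y * 1 ∈ (U ⊔ V) ^ (m * K) * (⊤ : Submodule F A) :=
    Submodule.mul_mem_mul hy Submodule.mem_top
  rw [mul_one] at h2
  exact h1 h2

/-- a proper nilpotent part has a normalizing element outside -/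
theorem jac_norm (W : Set A) (hW : ∀ a ∈ W, ∀ b ∈ W, a * b - b * a ∈ W) (U : Submodule F A)
    {K : ℕ} (hK : U ^ K = ⊥) {a : A} (ha : a ∈ W) (haU : a ∉ U) :
    ∃ w ∈ W, w ∉ U ∧ ∀ s ∈ W, s ∈ U → w * s - s * w ∈ U := by
  by_contra hc
  push Not at hc
  have key : ∀ n : ℕ, ∃ w ∈ W, w ∉ U ∧
      ∀ i j : ℕ, 2 * K ≤ i + j + n → ∀ x ∈ U ^ i, ∀ y ∈ U ^ j, x * w * y = 0 := by
    intro n
    induction n with
    | zero =>
      refine ⟨a, ha, haU, fun i j hij x hx y hy => ?_⟩
      rcases le_or_gt K i with h | h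
      · rw [jac_pow_bot U hK h, Submodule.mem_bot] at hx
        simp [hx]
      · rw [jac_pow_bot U hK (show K ≤ j by omega), Submodule.mem_bot] at hy
        simp [hy]
    | succ n ih =>
      obtain ⟨w, hwW, hwU, hw⟩ := ih
      obtain ⟨s, hsW, hsU, hs⟩ := hc w hwW hwU
      refine ⟨w * s - s * w, hW w hwW s hsW, hs, fun i j hij x hx y hy => ?_⟩
      have h1 : x * w * (s * y) = 0 :=
        hw i (j + 1) (by omega) x hx _ (by rw [pow_succ']; exact Submodule.mul_mem_mul hsU hy)
      have h2 : x * s * w * y = 0 :=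
        hw (i + 1) j (by omega) _ (by rw [pow_succ]; exact Submodule.mul_mem_mul hx hsU) y hy
      have h3 : x * (w * s - s * w) * y = x * w * (s * y) - x * s * w * y := by noncomm_ring
      rw [h3, h1, h2, sub_zero]
  obtain ⟨w, -, hwU, hw⟩ := key (2 * K)
  have h1 : (1 : A) ∈ U ^ 0 := by simp [Submodule.one_eq_span, Submodule.mem_span_singleton_self]
  have h2 := hw 0 0 (by omega) 1 h1 1 h1
  rw [one_mul, mul_one] at h2
  exact hwU (h2 ▸ U.zero_mem)

/-- Jacobson's theorem, subspace form -/
theorem jac_span (W : Set A) (hW : ∀ a ∈ W, ∀ b ∈ W, a * b - b * a ∈ W)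
    (hn : ∀ a ∈ W, IsNilpotent a) [FiniteDimensional F (Submodule.span F W)] :
    ∃ K : ℕ, Submodule.span F W ^ K = ⊥ := by
  classical
  let P : ℕ → Prop := fun r => ∃ S ⊆ W, (∃ K : ℕ, Submodule.span F S ^ K = ⊥) ∧
    Module.finrank F (Submodule.span F S) = r
  have h0 : P 0 := ⟨∅, Set.empty_subset _, ⟨1, by simp⟩, by rw [Submodule.span_empty, finrank_bot]⟩
  have hb : ∀ r, P r → r ≤ Module.finrank F (Submodule.span F W) := by
    rintro r ⟨S, hS, -, rfl⟩
    exact Submodule.finrank_mono (Submodule.span_mono hS)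
  obtain ⟨S, hS, ⟨K, hK⟩, hr⟩ : P (Nat.findGreatest P (Module.finrank F (Submodule.span F W))) :=
    Nat.findGreatest_spec (Nat.zero_le _) h0
  by_cases hWS : ∀ a ∈ W, a ∈ Submodule.span F S
  · refine ⟨K, eq_bot_iff.2 (le_trans ?_ hK.le)⟩
    exact pow_le_pow_left' (Submodule.span_le.2 hWS) K
  · exfalso
    push Not at hWS
    obtain ⟨a, ha, haU⟩ := hWS
    obtain ⟨w, hwW, hwU, hw⟩ := jac_norm W hW _ hK ha haU
    have hw' : ∀ s ∈ Submodule.span F S, w * s - s * w ∈ Submodule.span F S := by
      intro s hs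
      induction hs using Submodule.span_induction with
      | mem s hs => exact hw s (hS hs) (Submodule.subset_span hs)
      | zero => simp
      | add s t _ _ h1 h2 =>
        have : w * (s + t) - (s + t) * w = (w * s - s * w) + (w * t - t * w) := by noncomm_ring
        rw [this]
        exact Submodule.add_mem _ h1 h2
      | smul c s _ h1 =>
        have : w * (c • s) - (c • s) * w = c • (w * s - s * w) := by
          rw [mul_smul_comm, smul_mul_assoc, smul_sub]
        rw [this]
        exact Submodule.smul_mem _ _ h1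
    obtain ⟨N, hN⟩ := jac_step _ hK w (hn w hwW) hw'
    rw [← Submodule.span_union] at hN
    have hsub : S ∪ {w} ⊆ W := Set.union_subset hS (Set.singleton_subset_iff.2 hwW)
    have hP : P (Module.finrank F (Submodule.span F (S ∪ {w}))) := ⟨_, hsub, ⟨N, hN⟩, rfl⟩
    have hle := Nat.le_findGreatest (hb _ hP) hP
    rw [← hr] at hle
    have : FiniteDimensional F (Submodule.span F (S ∪ {w})) :=
      Submodule.finiteDimensional_of_le (Submodule.span_mono hsub)
    have hlt : Submodule.span F S < Submodule.span F (S ∪ {w}) := by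
      refine lt_of_le_of_ne (Submodule.span_mono Set.subset_union_left) fun h => hwU ?_
      rw [h]
      exact Submodule.subset_span (Set.mem_union_right _ rfl)
    exact absurd (Submodule.finrank_lt_finrank_of_lt hlt) (not_lt.2 hle)

end

/-- Jacobson's theorem on weakly closed sets -/
theorem jacBox : JacBox.{u} := by
  intro F A _ _ _ W hW hn hfin
  obtain ⟨K, hK⟩ := jac_span (F := F) W hW hn
  refine ⟨K, fun l hl hlen => ?_⟩
  have h := jac_prod_mem (Submodule.span F W) l fun a ha => Submodule.subset_span (hl a ha)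
  rwa [jac_pow_bot _ hK hlen, Submodule.mem_bot] at h

end Cfsg.Agent.Zel.PI
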