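import Cfsg.Agent.Zel.PI.Shift

/-!
# Reduction to a just infinite graded algebra
-/

set_option autoImplicit false

universe u

namespace Cfsg.Agent.Zel.PI

open Submodule

section

variable {F B α : Type*} [Field F] [Ring B] [Algebra F B] {y : α → B}

/-- a graded ideal, given by its components -/
structure GrId (F : Type*) [Field F] [Algebra F B] (y : α → B) (I : ℕ → Submodule F B) : Prop where
  le : ∀ n, I n ≤ W F y n
  left : ∀ n i a, a ∈ I n → y i * a ∈ I (n + 1)
  right : ∀ n i a, a ∈ I n → a * y i ∈ I (n + 1)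

variable (g : Gr F y) {I : ℕ → Submodule F B} (hI : GrId F y I)

/-- the ideal with the given components -/
def GrId.ideal : Ideal B where
  carrier := {z | ∀ n, g.p n z ∈ I n}
  add_mem' := fun {a b} ha hb n => by rw [map_add]; exact add_mem (ha n) (hb n)
  zero_mem' := fun n => by rw [map_zero]; exact zero_mem _
  smul_mem' := by
    intro c z hz
    refine g.ind (P := fun c => ∀ n, g.p n (c * z) ∈ I n) ?_ (by simp) ?_ ?_ c
    · intro w
      induction w with
      | nil => simpa using hz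
      | cons i w ih =>
        intro n
        rw [wd_cons, mul_assoc]
        cases n with
        | zero => rw [g.p_zero_x_mul]; exact zero_mem _
        | succ n => rw [g.p_x_mul]; exact hI.left _ _ _ (ih n)
    · intro a b h1 h2 n
      rw [add_mul, map_add]; exact add_mem (h1 n) (h2 n)
    · intro c a h n
      rw [smul_mul_assoc, map_smul]; exact smul_mem _ _ (h n)

theorem GrId.mem_ideal {z : B} : z ∈ hI.ideal g ↔ ∀ n, g.p n z ∈ I n := Iff.rfl

theorem GrId.twoSided : (hI.ideal g).IsTwoSided where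
  mul_mem_of_left := by
    intro z c hz
    refine g.ind (P := fun c => ∀ n, g.p n (z * c) ∈ I n) ?_ (by simp) ?_ ?_ c
    · intro w
      induction w using List.reverseRecOn with
      | nil => simpa using (hI.mem_ideal g).1 hz
      | append_singleton w i ih =>
        intro n
        rw [wd_append, wd_cons, wd_nil, mul_one, ← mul_assoc]
        cases n with
        | zero => rw [g.p_zero_mul_x]; exact zero_mem _
        | succ n => rw [g.p_mul_x]; exact hI.right _ _ _ (ih n)
    · intro a b h1 h2 n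
      rw [mul_add, map_add]; exact add_mem (h1 n) (h2 n)
    · intro c a h n
      rw [mul_smul_comm, map_smul]; exact smul_mem _ _ (h n)

theorem GrId.mem_ideal_iff {n : ℕ} {a : B} (ha : a ∈ W F y n) : a ∈ hI.ideal g ↔ a ∈ I n := by
  constructor
  · intro h
    have := h n
    rwa [g.p_self ha] at this
  · intro h m
    by_cases hm : n = m
    · subst hm; rwa [g.p_self ha]
    · rw [g.p_ne ha hm]; exact zero_mem _

theorem map_W {C : Type*} [Ring C] [Algebra F C] (φ : B →ₐ[F] C) (n : ℕ) :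
    (W F y n).map φ.toLinearMap = W F (fun i => φ (y i)) n := by
  apply le_antisymm
  · rw [map_le_iff_le_comap]
    refine W_le (fun w hw => ?_)
    change φ.toRingHom (wd y w) ∈ W F (fun i => φ (y i)) n
    rw [map_wd]
    exact wd_mem_W hw
  · refine W_le (fun w hw => ⟨wd y w, wd_mem_W hw, ?_⟩)
    exact map_wd φ.toRingHom w

/-- a surjection whose kernel is graded carries the grading over -/
theorem exists_gr_of_surj {C : Type*} [Ring C] [Algebra F C] (φ : B →ₐ[F] C)
    (hφ : Function.Surjective φ) (hk : ∀ z, φ z = 0 → ∀ n, φ (g.p n z) = 0) :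
    Nonempty (Gr F (fun i => φ (y i))) := by
  obtain ⟨σ, hσ⟩ := φ.toLinearMap.exists_rightInverse_of_surjective
    (LinearMap.range_eq_top.2 hφ)
  have h1 : ∀ n z, φ (g.p n (σ (φ z))) = φ (g.p n z) := by
    intro n z
    rw [← sub_eq_zero, ← map_sub, ← map_sub]
    refine hk _ ?_ n
    rw [map_sub, sub_eq_zero]
    exact LinearMap.congr_fun hσ (φ z)
  have h2 : ∀ w, wd (fun i => φ (y i)) w = φ (wd y w) := fun w => (map_wd φ.toRingHom w).symm
  refine ⟨⟨fun n => φ.toLinearMap ∘ₗ g.p n ∘ₗ σ, fun n w => ?_, fun a => ?_⟩⟩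
  · rw [h2]
    change φ (g.p n (σ (φ _))) = _
    rw [h1, g.p_wd]
    split_ifs <;> simp
  · obtain ⟨z, rfl⟩ := hφ a
    refine g.ind (P := fun z => φ z ∈ span F (Set.range (wd fun i => φ (y i)))) ?_ (by simp)
      ?_ ?_ z
    · intro w; exact subset_span ⟨w, h2 w⟩
    · intro a b ha hb; rw [map_add]; exact add_mem ha hb
    · intro c a ha; rw [map_smul]; exact smul_mem _ _ ha

theorem exists_max_grId [Finite α] (h0 : ∀ n, ¬ W F y n ≤ I n) (hI : GrId F y I) :
    ∃ M, I ≤ M ∧ Maximal (fun J => GrId F y J ∧ ∀ n, ¬ W F y n ≤ J n) M := by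
  refine zorn_le_nonempty₀ {J | GrId F y J ∧ ∀ n, ¬ W F y n ≤ J n} ?_ I ⟨hI, h0⟩
  intro c hc hch J hJ
  have hne : ∀ n, ((fun K : ℕ → Submodule F B => K n) '' c).Nonempty :=
    fun n => ⟨_, J, hJ, rfl⟩
  have hdir : ∀ n, DirectedOn (· ≤ ·) ((fun K : ℕ → Submodule F B => K n) '' c) := by
    rintro n _ ⟨K, hK, rfl⟩ _ ⟨L, hL, rfl⟩
    obtain ⟨M, hM, h1, h2⟩ := hch.directedOn K hK L hL
    exact ⟨_, ⟨M, hM, rfl⟩, h1 n, h2 n⟩
  refine ⟨fun n => sSup ((fun K : ℕ → Submodule F B => K n) '' c), ⟨⟨?_, ?_, ?_⟩, ?_⟩, ?_⟩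
  · intro n
    refine sSup_le ?_
    rintro _ ⟨K, hK, rfl⟩
    exact (hc hK).1.le n
  · intro n i a ha
    obtain ⟨_, ⟨K, hK, rfl⟩, h⟩ := (mem_sSup_of_directed (hne n) (hdir n)).1 ha
    exact (le_sSup (s := (fun K : ℕ → Submodule F B => K (n + 1)) '' c) ⟨K, hK, rfl⟩)
      ((hc hK).1.left n i a h)
  · intro n i a ha
    obtain ⟨_, ⟨K, hK, rfl⟩, h⟩ := (mem_sSup_of_directed (hne n) (hdir n)).1 ha
    exact (le_sSup (s := (fun K : ℕ → Submodule F B => K (n + 1)) '' c) ⟨K, hK, rfl⟩)
      ((hc hK).1.right n i a h)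
  · intro n hn
    have := W_fd (F := F) (x := y) n
    have hfg : (W F y n).FG := (Submodule.fg_iff_finiteDimensional _).2 this
    obtain ⟨_, ⟨K, hK, rfl⟩, h⟩ := (CompleteLattice.isCompactElement_iff_le_of_directed_sSup_le _ _).1
      ((Submodule.fg_iff_compact _).1 hfg) _ (hne n) (hdir n) hn
    exact (hc hK).2 n h
  · intro K hK n
    exact le_sSup (s := (fun K : ℕ → Submodule F B => K n) '' c) ⟨K, hK, rfl⟩

theorem isJI_of_max {C : Type*} [Ring C] [Algebra F C] (φ : B →ₐ[F] C)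
    (hk : ∀ n, ∀ a ∈ W F y n, φ a = 0 ↔ a ∈ I n)
    (hM : Maximal (fun J => GrId F y J ∧ ∀ n, ¬ W F y n ≤ J n) I) :
    IsJI F (fun i => φ (y i)) where
  ne := by
    intro n hn
    refine hM.1.2 n (fun a ha => (hk n a ha).1 ?_)
    rw [← map_W] at hn
    exact (mem_bot F).1 (hn ▸ mem_map_of_mem ha)
  ji := by
    intro K h1 h2 h3 ⟨m, hm⟩
    by_contra h4
    let J : ℕ → Submodule F B := fun n => W F y n ⊓ (K n).comap φ.toLinearMap
    have hJ : GrId F y J :=
      { le := fun n => inf_le_left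
        left := fun n i a ha => ⟨mul_mem_W' (x_mem_W i) ha.1 (add_comm _ _), by
          change φ (y i * a) ∈ K (n + 1)
          rw [map_mul]; exact h2 n i _ ha.2⟩
        right := fun n i a ha => ⟨mul_mem_W ha.1 (x_mem_W i), by
          change φ (a * y i) ∈ K (n + 1)
          rw [map_mul]; exact h3 n i _ ha.2⟩ }
    have hJ' : ∀ n, ¬ W F y n ≤ J n := fun n hn => h4 ⟨n, by
      rw [← map_W, map_le_iff_le_comap]
      exact hn.trans inf_le_right⟩
    have hIJ : I ≤ J := fun n a ha => ⟨hM.1.1.le n ha, by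
      change φ a ∈ K n
      rw [(hk n a (hM.1.1.le n ha)).2 ha]; exact zero_mem _⟩
    have hJI := hM.2 ⟨hJ, hJ'⟩ hIJ
    refine hm (eq_bot_iff.2 (fun b hb => ?_))
    have h5 := h1 m hb
    rw [← map_W] at h5
    obtain ⟨a, ha, rfl⟩ := h5
    exact (hk m a ha).2 (hJI m ⟨ha, hb⟩)

theorem map_val {C : Type*} [Ring C] [Algebra F C] (φ : B →ₐ[F] C) (S : Finset ℕ)
    (f : List ℕ → F) (t : ℕ → FreeMagma α) :
    φ (val S f (fun i => cm y (t i))) = val S f (fun i => cm (fun j => φ (y j)) (t i)) := by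
  unfold val
  rw [map_sum]
  refine Finset.sum_congr rfl (fun w _ => ?_)
  rw [map_smul]
  congr 1
  refine (map_wd φ.toRingHom w).trans ?_
  congr 1
  funext i
  exact map_cm φ.toRingHom (t i)

end

/-- the generators of the free algebra -/
noncomputable def fgen (F α : Type*) [Field F] (i : α) : MonoidAlgebra F (FreeMonoid α) :=
  MonoidAlgebra.of F _ (FreeMonoid.of i)

theorem wd_fgen (F : Type*) {α : Type*} [Field F] (w : List α) :
    wd (fgen F α) w = MonoidAlgebra.basis (FreeMonoid α) F (FreeMonoid.ofList w) := by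
  induction w with
  | nil => rfl
  | cons i w ih =>
    rw [wd_cons, ih, FreeMonoid.ofList_cons]
    exact (map_mul (MonoidAlgebra.of F (FreeMonoid α)) _ _).symm

/-- the grading of the free algebra -/
noncomputable def fgr (F α : Type*) [Field F] : Gr F (fgen F α) where
  p n := (MonoidAlgebra.basis (FreeMonoid α) F).constr F (fun w =>
    if w.toList.length = n then MonoidAlgebra.basis (FreeMonoid α) F w else 0)
  p_wd n w := by rw [wd_fgen, Module.Basis.constr_basis]; rfl
  top a := by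
    have : Set.range (wd (fgen F α)) = Set.range (MonoidAlgebra.basis (FreeMonoid α) F) := by
      ext z
      constructor
      · rintro ⟨w, rfl⟩; exact ⟨_, (wd_fgen F w).symm⟩
      · rintro ⟨w, rfl⟩; exact ⟨w.toList, wd_fgen F _⟩
    rw [this, Module.Basis.span_eq]
    trivial

theorem zBox_of_core (h : ∀ (F A : Type) [Field F] [IsAlgClosed F] [Ring A] [Algebra F A] (d : ℕ)
    (x : Fin d → A), Gr F x → IsJI F x → (∀ t, IsNilpotent (cm x t)) → HasPI F x → False) :
    ZBox.{u} := by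
  intro F A _ _ _ _ d x hnil hPI
  by_contra hc
  let y := fgen F (Fin d)
  let g := fgr F (Fin d)
  let ε : MonoidAlgebra F (FreeMonoid (Fin d)) →ₐ[F] A :=
    MonoidAlgebra.lift F A (FreeMonoid (Fin d)) (FreeMonoid.lift x)
  have hε : (fun i => ε (y i)) = x := by
    funext i
    simp [ε, y, fgen]
  let I₀ : ℕ → Submodule F (MonoidAlgebra F (FreeMonoid (Fin d))) :=
    fun n => W F y n ⊓ LinearMap.ker ε.toLinearMap
  have hI₀ : GrId F y I₀ :=
    { le := fun n => inf_le_left
      left := fun n i a ha => ⟨mul_mem_W' (x_mem_W i) ha.1 (add_comm _ _), by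
        change ε (y i * a) = 0
        rw [map_mul, show ε a = 0 from ha.2, mul_zero]⟩
      right := fun n i a ha => ⟨mul_mem_W ha.1 (x_mem_W i), by
        change ε (a * y i) = 0
        rw [map_mul, show ε a = 0 from ha.2, zero_mul]⟩ }
  have h0 : ∀ n, ¬ W F y n ≤ I₀ n := by
    intro n hn
    refine hc ⟨n, fun w hw => ?_⟩
    have h1 : wd x (w.take n) = 0 := by
      rw [← hε]
      exact (map_wd ε.toRingHom _).symm.trans (hn (wd_mem_W (by simp [hw]))).2
    rw [← List.take_append_drop n w, wd_append, h1, zero_mul]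
  obtain ⟨M, hM0, hM⟩ := exists_max_grId h0 hI₀
  have := hM.1.1.twoSided g
  let φ := Ideal.Quotient.mkₐ F (hM.1.1.ideal g)
  have hk : ∀ n, ∀ a ∈ W F y n, φ a = 0 ↔ a ∈ M n := fun n a ha =>
    Ideal.Quotient.eq_zero_iff_mem.trans (hM.1.1.mem_ideal_iff g ha)
  have hk0 : ∀ n, ∀ a ∈ W F y n, ε a = 0 → φ a = 0 := fun n a ha h1 =>
    (hk n a ha).2 (hM0 n ⟨ha, h1⟩)
  obtain ⟨g'⟩ := exists_gr_of_surj g φ (Ideal.Quotient.mkₐ_surjective F _) (fun z hz n =>
    (hk n _ (g.p_mem n z)).2 (Ideal.Quotient.eq_zero_iff_mem.1 hz n))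
  refine h F _ d (fun i => φ (y i)) g' (isJI_of_max φ hk hM) (fun t => ?_) ?_
  · obtain ⟨k, hk1⟩ := hnil t
    refine ⟨k, ?_⟩
    have h1 : cm (fun i => φ (y i)) t = φ (cm y t) := (map_cm φ.toRingHom t).symm
    rw [h1, ← map_pow]
    refine hk0 _ _ (pow_mem_W (cm_mem_W t) k) ?_
    have h2 : ε (cm y t) = cm x t := by rw [← hε]; exact map_cm ε.toRingHom t
    rw [map_pow, h2, hk1]
  · obtain ⟨S, f, h1, h2⟩ := hPI
    refine ⟨S, f, h1, fun t => ?_⟩
    rw [← map_val]
    refine hk0 _ _ (val_mem_W S f t) ?_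
    rw [map_val, hε, h2]

end Cfsg.Agent.Zel.PI
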