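import Mathlib
import Cfsg.Agent.Zel.PI.Defs

/-!
# The spans of the words of a given length, and gradings
-/

set_option autoImplicit false

namespace Cfsg.Agent.Zel.PI

open Submodule

variable {F A α : Type*} [Field F] [Ring A] [Algebra F A]

/-- the span of the words of length `n` -/
def W (F : Type*) [Field F] [Algebra F A] (x : α → A) (n : ℕ) : Submodule F A :=
  span F {a | ∃ w : List α, w.length = n ∧ wd x w = a}

variable {x : α → A}

theorem wd_mem_W {n : ℕ} {w : List α} (h : w.length = n) : wd x w ∈ W F x n :=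
  subset_span ⟨w, h, rfl⟩

theorem one_mem_W : (1 : A) ∈ W F x 0 := wd_mem_W (w := []) rfl

theorem x_mem_W (i : α) : x i ∈ W F x 1 := by
  have := wd_mem_W (F := F) (x := x) (w := [i]) rfl
  simpa using this

theorem W_le {n : ℕ} {I : Submodule F A} (h : ∀ w : List α, w.length = n → wd x w ∈ I) :
    W F x n ≤ I := by
  rw [W, span_le]
  rintro _ ⟨w, hw, rfl⟩
  exact h w hw

theorem W_ind {n : ℕ} {P : A → Prop} {a : A} (ha : a ∈ W F x n)
    (hw : ∀ w : List α, w.length = n → P (wd x w)) (h0 : P 0)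
    (hadd : ∀ a b, P a → P b → P (a + b)) (hs : ∀ (c : F) a, P a → P (c • a)) : P a := by
  induction ha using span_induction with
  | mem _ h => obtain ⟨w, h, rfl⟩ := h; exact hw w h
  | zero => exact h0
  | add a b _ _ h1 h2 => exact hadd a b h1 h2
  | smul c a _ h => exact hs c a h

theorem mul_mem_W {n m : ℕ} {a b : A} (ha : a ∈ W F x n) (hb : b ∈ W F x m) :
    a * b ∈ W F x (n + m) := by
  refine W_ind (P := fun a => a * b ∈ W F x (n + m)) ha ?_ (by simp) ?_ ?_
  · intro w hw
    refine W_ind (P := fun b => wd x w * b ∈ W F x (n + m)) hb ?_ (by simp) ?_ ?_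
    · intro v hv
      rw [← wd_append]
      exact wd_mem_W (by simp [hw, hv])
    · intro a b h1 h2
      rw [mul_add]; exact add_mem h1 h2
    · intro c a h
      rw [mul_smul_comm]; exact smul_mem _ _ h
  · intro a b h1 h2
    rw [add_mul]; exact add_mem h1 h2
  · intro c a h
    rw [smul_mul_assoc]; exact smul_mem _ _ h

theorem mul_mem_W' {n m k : ℕ} {a b : A} (ha : a ∈ W F x n) (hb : b ∈ W F x m) (h : n + m = k) :
    a * b ∈ W F x k := h ▸ mul_mem_W ha hb

theorem cm_mem_W (t : FreeMagma α) : cm x t ∈ W F x t.length := by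
  induction t with
  | ih1 a => exact x_mem_W a
  | ih2 s t hs ht =>
    rw [cm_mul]
    exact sub_mem (mul_mem_W' hs ht rfl) (mul_mem_W' ht hs (by simp [FreeMagma.length, add_comm]))

theorem pow_mem_W {n : ℕ} {a : A} (ha : a ∈ W F x n) (k : ℕ) : a ^ k ∈ W F x (k * n) := by
  induction k with
  | zero => simpa using one_mem_W
  | succ k ih => rw [pow_succ]; exact mul_mem_W' ih ha (by ring)

theorem wd_mem_W_sum {β : Type*} {z : β → A} {l : β → ℕ} (u : List β)
    (h : ∀ i ∈ u, z i ∈ W F x (l i)) : wd z u ∈ W F x (u.map l).sum := by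
  induction u with
  | nil => simpa using one_mem_W
  | cons a u ih =>
    rw [wd_cons, List.map_cons, List.sum_cons]
    exact mul_mem_W (h a (by simp)) (ih fun i hi => h i (by simp [hi]))

theorem sum_map_perms {S : Finset ℕ} {u : List ℕ} (hu : u ∈ perms S) (l : ℕ → ℕ) :
    (u.map l).sum = ∑ i ∈ S, l i := by
  obtain ⟨h1, h2⟩ := mem_perms.1 hu
  rw [← h2, List.sum_toFinset _ h1]

theorem wd_mem_W_perms {S : Finset ℕ} {u : List ℕ} (hu : u ∈ perms S) (t : ℕ → FreeMagma α) :
    wd (fun i => cm x (t i)) u ∈ W F x (∑ i ∈ S, (t i).length) := by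
  rw [← sum_map_perms hu]
  exact wd_mem_W_sum u fun i _ => cm_mem_W _

theorem val_mem_W (S : Finset ℕ) (f : List ℕ → F) (t : ℕ → FreeMagma α) :
    val S f (fun i => cm x (t i)) ∈ W F x (∑ i ∈ S, (t i).length) :=
  sum_mem fun _ hu => smul_mem _ _ (wd_mem_W_perms hu t)

theorem W_fd [Finite α] (n : ℕ) : FiniteDimensional F (W F x n) := by
  refine FiniteDimensional.span_of_finite F ?_
  have : {a | ∃ w : List α, w.length = n ∧ wd x w = a} = wd x '' {w | w.length = n} := rfl
  rw [this]
  exact (List.finite_length_eq α n).image _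

theorem W_add_le {n m : ℕ} {I : Submodule F A}
    (h : ∀ a ∈ W F x n, ∀ b ∈ W F x m, a * b ∈ I) : W F x (n + m) ≤ I := by
  refine W_le fun w hw => ?_
  rw [← List.take_append_drop n w, wd_append]
  exact h _ (wd_mem_W (by simp [hw])) _ (wd_mem_W (by simp [hw]))

theorem W_succ_le {n : ℕ} {I : Submodule F A} (h : ∀ i, ∀ b ∈ W F x n, x i * b ∈ I) :
    W F x (n + 1) ≤ I := by
  refine W_le fun w hw => ?_
  obtain _ | ⟨i, w⟩ := w
  · simp at hw
  · rw [wd_cons]
    exact h _ _ (wd_mem_W (by simpa using hw))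

/-- the span of the words of length less than `n` -/
def U (F : Type*) [Field F] [Algebra F A] (x : α → A) (n : ℕ) : Submodule F A :=
  ⨆ k ∈ Finset.range n, W F x k

theorem W_le_U {k n : ℕ} (h : k < n) : W F x k ≤ U F x n :=
  le_iSup₂_of_le (f := fun k (_ : k ∈ Finset.range n) => W F x k) k (Finset.mem_range.2 h) le_rfl

theorem U_le {n : ℕ} {I : Submodule F A} (h : ∀ k < n, W F x k ≤ I) : U F x n ≤ I :=
  iSup₂_le fun k hk => h k (Finset.mem_range.1 hk)

theorem U_fd [Finite α] (n : ℕ) : FiniteDimensional F (U F x n) := by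
  have := fun k => W_fd (F := F) (x := x) k
  rw [U, ← Finset.sup_eq_iSup]
  infer_instance

/-- a grading by the length of the words -/
structure Gr (F : Type*) [Field F] [Algebra F A] (x : α → A) where
  p : ℕ → A →ₗ[F] A
  p_wd : ∀ (n : ℕ) (w : List α), p n (wd x w) = if w.length = n then wd x w else 0
  top : ∀ a : A, a ∈ span F (Set.range (wd x))

namespace Gr

variable (g : Gr F x)

include g in
theorem ind {P : A → Prop} (hw : ∀ w : List α, P (wd x w)) (h0 : P 0)
    (hadd : ∀ a b, P a → P b → P (a + b)) (hs : ∀ (c : F) a, P a → P (c • a)) (a : A) : P a := by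
  have ha := g.top a
  induction ha using span_induction with
  | mem _ h => obtain ⟨w, rfl⟩ := h; exact hw w
  | zero => exact h0
  | add a b _ _ h1 h2 => exact hadd a b h1 h2
  | smul c a _ h => exact hs c a h

theorem p_mem (n : ℕ) (a : A) : g.p n a ∈ W F x n := by
  refine g.ind (P := fun a => g.p n a ∈ W F x n) ?_ (by simp) ?_ ?_ a
  · intro w
    rw [g.p_wd]
    split_ifs with h
    · exact wd_mem_W h
    · exact zero_mem _
  · intro a b h1 h2
    rw [map_add]; exact add_mem h1 h2
  · intro c a h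
    rw [map_smul]; exact smul_mem _ _ h

theorem p_self {n : ℕ} {a : A} (ha : a ∈ W F x n) : g.p n a = a := by
  refine W_ind (P := fun a => g.p n a = a) ha ?_ (by simp) ?_ ?_
  · intro w hw
    rw [g.p_wd, if_pos hw]
  · intro a b h1 h2
    rw [map_add, h1, h2]
  · intro c a h
    rw [map_smul, h]

theorem p_ne {n m : ℕ} {a : A} (ha : a ∈ W F x n) (h : n ≠ m) : g.p m a = 0 := by
  refine W_ind (P := fun a => g.p m a = 0) ha ?_ (by simp) ?_ ?_
  · intro w hw
    rw [g.p_wd, if_neg (hw ▸ h)]
  · intro a b h1 h2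
    rw [map_add, h1, h2, add_zero]
  · intro c a h
    rw [map_smul, h, smul_zero]

theorem p_mul_x (n : ℕ) (a : A) (i : α) : g.p (n + 1) (a * x i) = g.p n a * x i := by
  refine g.ind (P := fun a => g.p (n + 1) (a * x i) = g.p n a * x i) ?_ (by simp) ?_ ?_ a
  · intro w
    have : wd x w * x i = wd x (w ++ [i]) := by simp
    rw [this, g.p_wd, g.p_wd]
    by_cases h : w.length = n <;> simp [h]
  · intro a b h1 h2
    rw [add_mul, map_add, map_add, h1, h2, add_mul]
  · intro c a h
    rw [smul_mul_assoc, map_smul, map_smul, h, smul_mul_assoc]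

theorem p_x_mul (n : ℕ) (a : A) (i : α) : g.p (n + 1) (x i * a) = x i * g.p n a := by
  refine g.ind (P := fun a => g.p (n + 1) (x i * a) = x i * g.p n a) ?_ (by simp) ?_ ?_ a
  · intro w
    rw [← wd_cons, g.p_wd, g.p_wd]
    by_cases h : w.length = n <;> simp [h]
  · intro a b h1 h2
    rw [mul_add, map_add, map_add, h1, h2, mul_add]
  · intro c a h
    rw [mul_smul_comm, map_smul, map_smul, h, mul_smul_comm]

theorem p_zero_mul_x (a : A) (i : α) : g.p 0 (a * x i) = 0 := by
  refine g.ind (P := fun a => g.p 0 (a * x i) = 0) ?_ (by simp) ?_ ?_ a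
  · intro w
    have : wd x w * x i = wd x (w ++ [i]) := by simp
    rw [this, g.p_wd]
    simp
  · intro a b h1 h2
    rw [add_mul, map_add, h1, h2, add_zero]
  · intro c a h
    rw [smul_mul_assoc, map_smul, h, smul_zero]

theorem p_zero_x_mul (a : A) (i : α) : g.p 0 (x i * a) = 0 := by
  refine g.ind (P := fun a => g.p 0 (x i * a) = 0) ?_ (by simp) ?_ ?_ a
  · intro w
    rw [← wd_cons, g.p_wd]
    simp
  · intro a b h1 h2
    rw [mul_add, map_add, h1, h2, add_zero]
  · intro c a h
    rw [mul_smul_comm, map_smul, h, smul_zero]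

theorem exists_sum (a : A) : ∃ B, ∀ C, B ≤ C → ∑ k ∈ Finset.range C, g.p k a = a := by
  refine g.ind (P := fun a => ∃ B, ∀ C, B ≤ C → ∑ k ∈ Finset.range C, g.p k a = a) ?_
    ⟨0, by simp⟩ ?_ ?_ a
  · intro w
    refine ⟨w.length + 1, fun C hC => ?_⟩
    simp only [g.p_wd]
    rw [Finset.sum_ite_eq, if_pos (Finset.mem_range.2 hC)]
  · rintro a b ⟨B1, h1⟩ ⟨B2, h2⟩
    refine ⟨max B1 B2, fun C hC => ?_⟩
    simp only [map_add, Finset.sum_add_distrib]
    rw [h1 C (le_of_max_le_left hC), h2 C (le_of_max_le_right hC)]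
  · rintro c a ⟨B, h⟩
    refine ⟨B, fun C hC => ?_⟩
    simp only [map_smul, ← Finset.smul_sum]
    rw [h C hC]

theorem eq_zero {a : A} (h : ∀ n, g.p n a = 0) : a = 0 := by
  obtain ⟨B, hB⟩ := g.exists_sum a
  rw [← hB B le_rfl]
  simp [h]

end Gr

/-- moving a letter across a word without repetitions -/
theorem comm_wd {β : Type*} [DecidableEq β] (y : A) (z : β → A) (u : List β) (hu : u.Nodup) :
    y * wd z u = wd z u * y +
      ∑ i ∈ u.toFinset, wd (Function.update z i (y * z i - z i * y)) u := by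
  induction u with
  | nil => simp
  | cons a u ih =>
    obtain ⟨ha, hu⟩ := List.nodup_cons.1 hu
    have ha' : a ∉ u.toFinset := by simpa using ha
    rw [List.toFinset_cons, Finset.sum_insert ha', wd_cons, wd_cons, Function.update_self]
    have e1 : wd (Function.update z a (y * z a - z a * y)) u = wd z u := by
      unfold wd
      congr 1
      refine List.map_congr_left fun i hi => Function.update_of_ne ?_ _ _
      rintro rfl
      exact ha hi
    have e2 : ∑ i ∈ u.toFinset, wd (Function.update z i (y * z i - z i * y)) (a :: u) =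
        z a * ∑ i ∈ u.toFinset, wd (Function.update z i (y * z i - z i * y)) u := by
      rw [Finset.mul_sum]
      refine Finset.sum_congr rfl fun i hi => ?_
      rw [wd_cons, Function.update_of_ne]
      rintro rfl
      exact ha' hi
    rw [e1, e2]
    have := ih hu
    calc y * (z a * wd z u) = (y * z a - z a * y) * wd z u + z a * (y * wd z u) := by noncomm_ring
      _ = _ := by rw [this]; noncomm_ring

end Cfsg.Agent.Zel.PI
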